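import Cfsg.Agent.S4025
import Cfsg.Agent.Lib.PSL2.Out

/-!
# Model groups: orders and recognition
-/

set_option autoImplicit false
set_option linter.style.haveILetI false

namespace CfsgLib.EqualConj

open Matrix
open scoped MatrixGroups

/-- The order of the semi-affine group of a finite field. -/
theorem card_semiaffine {F : Type*} [Field F] [Finite F] (p n : ℕ) [Fact p.Prime] [CharP F p]
    (hF : Nat.card F = p ^ n) : Nat.card (Cfsg.semiaffineGroup F) = p ^ n * ((p ^ n - 1) * n) := by
  classical
  refine le_antisymm (Cfsg.Agent.S4025.card_semiaffine_le p n hF) ?_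
  rw [← Cfsg.Agent.S4025.card_semilin p n hF, ← hF, ← Nat.card_prod]
  refine Nat.card_le_card_of_injective (fun t : F × Cfsg.Agent.S4025.semilin F =>
    (⟨(t.2 : Equiv.Perm F).trans (Equiv.addRight t.1), by
      obtain ⟨a, σ, h⟩ := Cfsg.Agent.S4025.mem_semilin.1 t.2.2
      exact ⟨a, t.1, σ, fun x => by
        show (t.2 : Equiv.Perm F) x + t.1 = _
        rw [h x]⟩⟩ : Cfsg.semiaffineGroup F)) ?_
  rintro ⟨b, π⟩ ⟨c, ρ⟩ h
  have h' : ∀ x, (π : Equiv.Perm F) x + b = (ρ : Equiv.Perm F) x + c := fun x =>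
    congrArg (fun σ : Cfsg.semiaffineGroup F => (σ : Equiv.Perm F) x) h
  have h0 := h' 0
  have hπ : (π : Equiv.Perm F) 0 = 0 := π.2.2
  have hρ : (ρ : Equiv.Perm F) 0 = 0 := ρ.2.2
  rw [hπ, hρ, zero_add, zero_add] at h0
  subst h0
  exact Prod.ext rfl (Subtype.ext (Equiv.ext fun x => add_right_cancel (h' x)))

/-- A group of order twelve with a self-centralising normal subgroup of order four is alternating. -/
theorem alt_four {G : Type*} [Group G] [Finite G] (hG : Nat.card G = 12) (V : Subgroup G) [V.Normal]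
    (hV : Nat.card V = 4) (hC : Subgroup.centralizer (V : Set G) ≤ V) :
    Nonempty (G ≃* alternatingGroup (Fin 4)) := by
  classical
  haveI : Fact (Nat.Prime 3) := ⟨Nat.prime_three⟩
  obtain ⟨x, hx⟩ := exists_prime_orderOf_dvd_card' (G := G) 3 (by rw [hG]; norm_num)
  set H := Subgroup.zpowers x
  have hH : Nat.card H = 3 := by rw [Nat.card_zpowers, hx]
  have hidx : H.index = 4 := by
    have := H.index_mul_card
    rw [hG, hH] at this
    omega
  set φ := MulAction.toPermHom G (G ⧸ H)
  have hker : φ.ker = ⊥ := by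
    have h1 : φ.ker ≤ H := by
      intro g hg
      have := DFunLike.congr_fun (MonoidHom.mem_ker.1 hg) (QuotientGroup.mk (1 : G) : G ⧸ H)
      change g • (QuotientGroup.mk (1 : G) : G ⧸ H) = QuotientGroup.mk (1 : G) at this
      rw [MulAction.Quotient.smul_mk, smul_eq_mul, QuotientGroup.eq, mul_one, mul_one] at this
      exact inv_inv g ▸ inv_mem this
    have hd : Nat.card φ.ker ∣ 3 := hH ▸ Subgroup.card_dvd_of_le h1
    rcases (Nat.dvd_prime Nat.prime_three).1 hd with h | h
    · exact Subgroup.eq_bot_of_card_eq _ h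
    exfalso
    have hHk : φ.ker = H := Subgroup.eq_of_le_of_card_ge h1 (by rw [hH, h])
    haveI : H.Normal := hHk ▸ inferInstance
    have hdisj : Disjoint V H := disjoint_iff.2
      (Subgroup.inf_eq_bot_of_coprime (by rw [hV, hH]; norm_num))
    have hxV : x ∈ V := hC (Subgroup.mem_centralizer_iff.2 fun v hv =>
      Subgroup.commute_of_normal_of_disjoint V H ‹_› ‹_› hdisj v x hv (Subgroup.mem_zpowers x))
    have := Subgroup.disjoint_def.1 hdisj hxV (Subgroup.mem_zpowers x)
    rw [this, orderOf_one] at hx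
    norm_num at hx
  obtain ⟨e⟩ : Nonempty (G ⧸ H ≃ Fin 4) :=
    ⟨Finite.equivFinOfCardEq (by rw [← Subgroup.index_eq_card, hidx])⟩
  set ψ := e.permCongrHom.toMonoidHom.comp φ
  have hψ : Function.Injective ψ := e.permCongrHom.injective.comp ((MonoidHom.ker_eq_bot_iff φ).1 hker)
  have hr : ψ.range = alternatingGroup (Fin 4) := by
    refine Equiv.Perm.eq_alternatingGroup_of_index_eq_two ?_
    have h1 := ψ.range.index_mul_card
    rw [← Nat.card_congr (MonoidHom.ofInjective hψ).toEquiv, hG, Nat.card_perm, Nat.card_fin] at h1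
    simp only [Nat.factorial] at h1
    omega
  exact ⟨(MonoidHom.ofInjective hψ).trans (MulEquiv.subgroupCongr hr)⟩

section ProjAut

open CfsgLib.PSL2

variable {F : Type} [Field F] [Fintype F] [CharP F 2]

local notation "PSL" => Matrix.ProjectiveSpecialLinearGroup (Fin 2) F

/-- In characteristic two every automorphism is inner times a field automorphism. -/
theorem exists_conj_field (φ : MulAut PSL) : ∃ (x : PSL) (e : F ≃+* F), φ = MulAut.conj x * fieldAut e := by
  haveI : Fact (Nat.Prime 2) := ⟨Nat.prime_two⟩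
  obtain ⟨g, e, h⟩ := exists_diag_field 2 φ
  obtain ⟨c, A, rfl⟩ := exists_dil_mul g
  have hsq : c ∈ (powMonoidHom 2 : Fˣ →* Fˣ).range := by
    obtain ⟨d, hd⟩ := (Finite.surjective_of_injective (f := fun a : Fˣ => a ^ 2) fun a b hab => by
      refine Units.ext (CharTwo.sq_injective ?_)
      have := congrArg Units.val hab
      simpa [Units.val_pow_eq_pow_val] using this) c
    exact ⟨d, hd⟩
  obtain ⟨x, hx⟩ := (dil_inner_iff c).2 hsq
  exact ⟨x * mk A, e, by rw [h, map_mul, hx, diagAut_toGL, map_mul]⟩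

/-- The order of the automorphism group in characteristic two. -/
theorem card_aut_le : Nat.card (MulAut PSL) ≤ Nat.card PSL * Nat.card (F ≃+* F) := by
  haveI : Finite (F ≃+* F) := Finite.of_injective (fun σ : F ≃+* F => (σ : F → F)) DFunLike.coe_injective
  rw [← Nat.card_prod]
  refine Nat.card_le_card_of_surjective (fun t : PSL × (F ≃+* F) => MulAut.conj t.1 * fieldAut t.2) fun φ => ?_
  obtain ⟨x, e, h⟩ := exists_conj_field φ
  exact ⟨(x, e), h.symm⟩

end ProjAut

end CfsgLib.EqualConj
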