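import Mathlib

/-!
# Groups of order dividing fifteen
-/

set_option autoImplicit false
set_option linter.style.haveILetI false

namespace CfsgLib.EqualConj

/-- A group of order dividing fifteen is commutative. -/
theorem comm_of_card {K : Type*} [Group K] [Finite K] (h : Nat.card K ∣ 15) : IsMulCommutative K := by
  have hsq : Squarefree (Nat.card K) := Squarefree.squarefree_of_dvd h (by
    rw [show (15 : ℕ) = 3 * 5 by norm_num, Nat.squarefree_mul (by norm_num)]
    exact ⟨Nat.prime_three.squarefree, Nat.prime_five.squarefree⟩)
  have hn : Group.IsNilpotent K := by
    refine ((Group.isNilpotent_of_finite_tfae (G := K)).out 0 3).mpr ?_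
    intro p hp P
    haveI := hp
    have h1 : Nat.card (Sylow p K) = 1 := by
      have hd : Nat.card (Sylow p K) ∣ 15 := (P.card_dvd_index.trans (Subgroup.index_dvd_card _)).trans h
      have hm := card_sylow_modEq_one p K
      have hne : ¬ p ∣ Nat.card (Sylow p K) := not_dvd_card_sylow p K
      by_cases hpK : p ∣ Nat.card K
      · have hPd : p ∣ Nat.card P := P.dvd_card_of_dvd_card hpK
        have hd' : Nat.card (Sylow p K) * p ∣ 15 :=
          ((mul_dvd_mul P.card_dvd_index hPd).trans (by rw [Subgroup.index_mul_card])).trans h
        have hp15 : p ∣ 15 := hpK.trans h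
        have : p = 3 ∨ p = 5 := by
          have h3 : p ≤ 15 := Nat.le_of_dvd (by norm_num) hp15
          have h2 := hp.out.two_le
          interval_cases p <;> first | exact Or.inl rfl | exact Or.inr rfl | omega | (exfalso; exact absurd hp.out (by norm_num))
        have hle : Nat.card (Sylow p K) * p ≤ 15 := Nat.le_of_dvd (by norm_num) hd'
        unfold Nat.ModEq at hm
        generalize Nat.card (Sylow p K) = n at *
        rcases this with rfl | rfl
        · have : n ≤ 5 := by omega
          interval_cases n <;> first | rfl | omega | norm_num at hd' | norm_num at hm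
        · have : n ≤ 3 := by omega
          interval_cases n <;> first | rfl | omega | norm_num at hd' | norm_num at hm
      · have hP : (P : Subgroup K) = ⊥ := by
          rw [← Subgroup.card_eq_one, Sylow.card_eq_multiplicity, Nat.factorization_eq_zero_of_not_dvd hpK, pow_zero]
        haveI : (P : Subgroup K).Normal := hP ▸ inferInstance
        haveI := Sylow.unique_of_normal P inferInstance
        exact Nat.card_unique
    haveI : Subsingleton (Sylow p K) := (Nat.card_eq_one_iff_unique.mp h1).1
    exact Sylow.normal_of_subsingleton P
  haveI := IsZGroup.of_squarefree hsq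
  haveI := hn
  exact IsCyclic.isMulCommutative

end CfsgLib.EqualConj
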