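import Cfsg.Agent.Lib.EqualConj.Order
import Cfsg.Agent.Lib.EqualConj.Fifteen
import Cfsg.Agent.Lib.Blocks.Vanishing
import Cfsg.Agent.Lib.AbInvCent.Main
import Cfsg.Agent.Lib.InvTimesAlt.CA

/-!
# Simple groups with a transitive elementary abelian Sylow 2-subgroup of order 4, 8 or 32
-/

set_option autoImplicit false
set_option linter.unusedVariables false
set_option linter.style.haveILetI false
set_option linter.unusedSectionVars false

namespace CfsgLib.EqualConj

open Cfsg Subgroup CfsgLib.CharTheory CfsgLib.Blocks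

universe u

variable {G : Type u} [Group G] [Finite G] {T : Sylow 2 G} {q : ℕ}

theorem center_bot_of_simple [IsSimpleGroup G] (hnn : ¬ (T : Subgroup G).Normal) : center G = ⊥ := by
  rcases IsSimpleGroup.eq_bot_or_eq_top_of_normal (center G) inferInstance with e | e
  · exact e
  · exfalso
    refine hnn ⟨fun n hn g => ?_⟩
    have hg : g ∈ center G := by rw [e]; exact mem_top g
    rw [← mem_center_iff.1 hg n, mul_inv_cancel_right]
    exact hn

/-- A small index of the normaliser makes the complement commutative. -/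
theorem comm_of_index [IsSimpleGroup G] (h : Hyp T q) (hnn : ¬ (T : Subgroup G).Normal)
    {N : Subgroup (Cc T)} [N.Normal] (hNodd : ¬ 2 ∣ Nat.card N) (hNidx : N.index = q)
    (hidx : (Nn T).index < 6 * q) (a b : Cc T) (ha : a ∈ N) (hb : b ∈ N) : a * b = b * a := by
  classical
  haveI : Fact (Nat.Prime 2) := ⟨Nat.prime_two⟩
  haveI := Fintype.ofFinite G
  haveI := Fintype.ofFinite (G ⧸ Nn T)
  set x₀ : G ⧸ Nn T := QuotientGroup.mk 1
  -- no involution of the Sylow subgroup fixes another coset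
  have hfree : ∀ e ∈ (T : Subgroup G), e ≠ 1 → ∀ x : G ⧸ Nn T, e • x = x → x = x₀ := by
    intro e he he1 x
    refine QuotientGroup.induction_on x fun g hg => ?_
    rw [MulAction.Quotient.smul_mk, smul_eq_mul, QuotientGroup.eq] at hg
    have hgN : g⁻¹ * e * g ∈ Nn T := by
      have := inv_mem hg
      rwa [mul_inv_rev, inv_inv, ← mul_assoc] at this
    set e' := g⁻¹ * e * g with he'
    have he'o : orderOf e' = 2 := by
      rw [he', ← ord_two h he he1, ← (MulAut.conj g⁻¹).orderOf_eq e]
      simp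
    have he'T : e' ∈ (T : Subgroup G) := by
      have hp : IsPGroup 2 (Subgroup.zpowers e') := IsPGroup.of_card (n := 1) (by
        rw [Nat.card_zpowers, he'o, pow_one])
      have hn : (Subgroup.zpowers e') ≤ Nn T := zpowers_le.2 hgN
      have := (T.subtype le_normalizer).2
      haveI hTn : ((T.subtype (le_normalizer (H := (T : Subgroup G)))) : Subgroup (Nn T)).Normal := by
        rw [Sylow.coe_subtype]
        exact Subgroup.normal_in_normalizer
      haveI := Sylow.unique_of_normal _ hTn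
      obtain ⟨S, hS⟩ := (hp.comap_of_injective (Nn T).subtype (Nn T).subtype_injective).exists_le_sylow
      rw [Subsingleton.elim S (T.subtype le_normalizer)] at hS
      exact hS (show (⟨e', hgN⟩ : Nn T) ∈ (Subgroup.zpowers e').comap (Nn T).subtype from mem_zpowers e')
    have he'1 : e' ≠ 1 := fun e0 => by rw [e0, orderOf_one] at he'o; norm_num at he'o
    obtain ⟨c, hc, hce⟩ := h.conj e he e' he'T he1 he'1
    have hgc : g * c ∈ Nn T := C_le_N ((mem_cent_iff h he he1).2 (by
      show g * c * e = e * (g * c)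
      have h1 : c * e = e' * c := mul_inv_eq_iff_eq_mul.1 hce
      calc g * c * e = g * (c * e) := mul_assoc _ _ _
        _ = g * (g⁻¹ * e * g * c) := by rw [h1]
        _ = e * (g * c) := by group))
    have hgm : g ∈ Nn T := by simpa [mul_assoc] using mul_mem hgc (inv_mem hc)
    exact QuotientGroup.eq.2 (by simpa using inv_mem hgm)
  -- each orbit of the complement off the fixed coset has one, three or five points
  have hfix : ∀ x : G ⧸ Nn T, ((a * b * a⁻¹ * b⁻¹ : Cc T) : G) • x = x := by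
    intro x
    by_cases hx : x = x₀
    · subst hx
      rw [MulAction.Quotient.smul_mk, smul_eq_mul, QuotientGroup.eq, mul_one, mul_one]
      exact inv_mem (C_le_N (a * b * a⁻¹ * b⁻¹ : Cc T).2)
    set S := MulAction.stabilizer (Cc T) x with hS
    have hSodd : ¬ 2 ∣ Nat.card S := by
      intro h2
      obtain ⟨s, hs⟩ := exists_prime_orderOf_dvd_card' (G := S) 2 h2
      have hso : orderOf ((s : Cc T) : G) = 2 := by rw [Subgroup.orderOf_coe, Subgroup.orderOf_coe, hs]
      have hs1 : ((s : Cc T) : G) ≠ 1 := fun e0 => by rw [e0, orderOf_one] at hso; norm_num at hso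
      exact hx (hfree _ (inv_mem_T h (s : Cc T).2 (by rw [← pow_two, ← hso, pow_orderOf_eq_one])) hs1 x s.2)
    have hSN : S ≤ N := by
      intro s hs
      rw [← QuotientGroup.eq_one_iff, ← orderOf_eq_one_iff]
      obtain ⟨k, hk⟩ := pow_two_q h
      refine Nat.eq_one_of_dvd_coprimes (((Nat.prime_two.coprime_iff_not_dvd).2 fun h2 => hSodd
        (h2.trans (Subgroup.orderOf_dvd_natCard S hs))).pow_left k) ?_ (orderOf_map_dvd (QuotientGroup.mk' N) s)
      rw [← hk, ← hNidx]
      exact orderOf_dvd_natCard _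
    set i := S.relIndex N with hi
    have hSi : S.index = i * q := by rw [← relIndex_mul_index hSN, hNidx]
    have hlt : S.index < 6 * q := by
      rw [hS, MulAction.index_stabilizer]
      have h1 : (MulAction.orbit (Cc T) x).ncard ≤ ({x₀}ᶜ : Set (G ⧸ Nn T)).ncard := by
        refine Set.ncard_le_ncard (fun y hy => ?_) (Set.toFinite _)
        obtain ⟨c, rfl⟩ := hy
        intro h0
        refine hx ?_
        have h0' : c • x = x₀ := h0
        rw [← inv_smul_smul c x, h0']
        show ((c⁻¹ : Cc T) : G) • x₀ = x₀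
        rw [MulAction.Quotient.smul_mk, smul_eq_mul, QuotientGroup.eq, mul_one, mul_one]
        exact inv_mem (C_le_N (c⁻¹ : Cc T).2)
      have h2 := Set.ncard_add_ncard_compl ({x₀} : Set (G ⧸ Nn T))
      rw [Set.ncard_singleton, ← Subgroup.index_eq_card] at h2
      omega
    have hi6 : i < 6 := Nat.lt_of_mul_lt_mul_right (hSi ▸ hlt)
    have hiodd : ¬ 2 ∣ i := fun h2 => hNodd (h2.trans (Subgroup.relIndex_dvd_card S N))
    -- the image in the symmetric group
    set S' := S.subgroupOf N
    set ρ := MulAction.toPermHom N (N ⧸ S')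
    have hcard : Nat.card ρ.range ∣ 15 := by
      have h1 : Nat.card ρ.range ∣ i.factorial := by
        have := Subgroup.card_subgroup_dvd_card ρ.range
        rwa [Nat.card_perm, ← Subgroup.index_eq_card] at this
      have h2 : Nat.Coprime (Nat.card ρ.range) 8 :=
        ((Nat.prime_two.coprime_iff_not_dvd).2 fun h2 => hNodd
          (h2.trans (Subgroup.card_range_dvd ρ))).symm.pow_right 3
      have h3 : i.factorial ∣ 15 * 8 := by
        have : 0 < i := Nat.pos_of_ne_zero (fun h0 => hiodd (h0 ▸ dvd_zero 2))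
        interval_cases i <;> decide
      exact h2.dvd_of_dvd_mul_right (h1.trans h3)
    haveI := comm_of_card hcard
    have hker : (⟨a, ha⟩ : N) * ⟨b, hb⟩ * (⟨a, ha⟩ : N)⁻¹ * (⟨b, hb⟩ : N)⁻¹ ∈ ρ.ker := by
      rw [← MonoidHom.ker_rangeRestrict, MonoidHom.mem_ker]
      simp only [map_mul, map_inv]
      rw [IsMulCommutative.is_comm.comm (ρ.rangeRestrict ⟨a, ha⟩) (ρ.rangeRestrict ⟨b, hb⟩)]
      group
    have h4 : ((⟨a, ha⟩ : N) * ⟨b, hb⟩ * (⟨a, ha⟩ : N)⁻¹ * (⟨b, hb⟩ : N)⁻¹) ∈ S' := by
      have h5 : ((⟨a, ha⟩ : N) * ⟨b, hb⟩ * (⟨a, ha⟩ : N)⁻¹ * (⟨b, hb⟩ : N)⁻¹) • (QuotientGroup.mk (1 : N) : N ⧸ S') =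
          QuotientGroup.mk (1 : N) := DFunLike.congr_fun (MonoidHom.mem_ker.1 hker) (QuotientGroup.mk (1 : N) : N ⧸ S')
      rw [MulAction.Quotient.smul_mk, smul_eq_mul, QuotientGroup.eq, mul_one, mul_one] at h5
      simpa using inv_mem h5
    exact h4
  have h1 : ((a * b * a⁻¹ * b⁻¹ : Cc T) : G) ∈ (MulAction.toPermHom G (G ⧸ Nn T)).ker :=
    MonoidHom.mem_ker.2 (Equiv.ext hfix)
  have hne : Nn T ≠ ⊤ := fun e => hnn (normalizer_eq_top_iff.1 e)
  rcases IsSimpleGroup.eq_bot_or_eq_top_of_normal (MulAction.toPermHom G (G ⧸ Nn T)).ker inferInstance with e | e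
  · rw [e, mem_bot] at h1
    have h2 : a * b * a⁻¹ * b⁻¹ = 1 := Subtype.ext h1
    rwa [mul_inv_eq_one, mul_inv_eq_iff_eq_mul] at h2
  · exfalso
    refine hne (eq_top_iff.2 fun g _ => ?_)
    have hg : g ∈ (MulAction.toPermHom G (G ⧸ Nn T)).ker := by rw [e]; exact mem_top g
    have h2 := DFunLike.congr_fun (MonoidHom.mem_ker.1 hg) x₀
    change g • x₀ = x₀ at h2
    rw [MulAction.Quotient.smul_mk, smul_eq_mul, QuotientGroup.eq, mul_one, mul_one] at h2
    exact inv_inv g ▸ inv_mem h2

/-- The simple groups with these properties are the groups PSL(2,q). -/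
theorem psl_of_simple [IsSimpleGroup G] (h : Hyp T q) (hq : q = 4 ∨ q = 8 ∨ q = 32)
    (hnn : ¬ (T : Subgroup G).Normal) :
    Cc T = (T : Subgroup G) ∧ ∃ (F : Type) (_ : Field F) (_ : Fintype F), Fintype.card F = q ∧
      Nonempty (G ≃* Matrix.ProjectiveSpecialLinearGroup (Fin 2) F) := by
  classical
  haveI := Fintype.ofFinite G
  haveI : Fact (Nat.Prime 2) := ⟨Nat.prime_two⟩
  obtain ⟨N, hN, hNodd, hNidx, hdec, hTN⟩ := exists_O h
  haveI := hN
  obtain ⟨J, hJ, hJ1⟩ := exists_J h
  obtain ⟨M, hM⟩ := exists_isPModular (p := 2) Nat.prime_two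
  have hNcomm : ∀ a ∈ N, ∀ b ∈ N, a * b = b * a := by
    rcases kernel_or_index h hq hM hJ hJ1 hNodd hNidx hTN with ⟨χ, hne, hker⟩ | hidx
    · intro a ha b hb
      set hc := isCharacter_of_irr χ.2
      rcases IsSimpleGroup.eq_bot_or_eq_top_of_normal (charKernel _ hc) inferInstance with e | e
      · have ha1 : a = 1 := by
          have := (mem_charKernel hc _).mpr (hker ⟨a, ha⟩)
          rw [e, mem_bot] at this
          exact Subtype.ext this
        rw [ha1, one_mul, mul_one]
      · exact absurd (irr_eq_one_of_kernel_top χ.2 fun g => (mem_charKernel hc g).mp (e ▸ mem_top g)) hne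
    · exact fun a ha b hb => comm_of_index h hnn hNodd hNidx hidx a b ha hb
  have hCcomm : ∀ a ∈ Cc T, ∀ b ∈ Cc T, a * b = b * a := by
    intro a ha b hb
    obtain ⟨e, he, o, ho, h1⟩ := hdec ⟨a, ha⟩
    obtain ⟨e', he', o', ho', h2⟩ := hdec ⟨b, hb⟩
    simp only at h1 h2
    have h3 : (o : G) * o' = (o' : G) * o := congrArg Subtype.val (hNcomm o ho o' ho')
    have h4 : e * e' = e' * e := T_comm h he he'
    have h5 : (o : G) * e' = e' * o := (mem_centralizer_iff.1 o.2 e' he').symm
    have h6 : (o' : G) * e = e * o' := (mem_centralizer_iff.1 o'.2 e he).symm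
    rw [h1, h2]
    calc e * (o : G) * (e' * o') = e * ((o : G) * e') * o' := by group
      _ = (e * e') * ((o : G) * o') := by rw [h5]; group
      _ = e' * (e * o') * o := by rw [h4, h3]; group
      _ = e' * o' * (e * o) := by rw [← h6]; group
  have hnc : ¬ IsCyclic (T : Subgroup G) := fun hc => by
    obtain ⟨g, hg⟩ := hc.exists_zpow_surjective
    have h1 := orderOf_eq_card_of_forall_mem_zpowers (g := g) fun x => hg x
    have h2 : orderOf g ∣ 2 := orderOf_dvd_of_pow_eq_one (Subtype.ext (by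
      rw [pow_two, Subgroup.coe_mul]; exact h.sq g g.2))
    rw [h1, h.card] at h2
    have := Nat.le_of_dvd two_pos h2
    have := h.big
    omega
  have hcent : ∀ t : G, orderOf t = 2 → IsMulCommutative (centralizer ({t} : Set G)) := by
    intro t ht
    obtain ⟨c, hc⟩ := isConj_iff.1 (isConj_inv h hJ hJ1 ht)
    refine ⟨⟨fun x y => Subtype.ext ?_⟩⟩
    have key : ∀ z : centralizer ({t} : Set G), c⁻¹ * (z : G) * c ∈ Cc T := fun z => by
      rw [mem_cent_iff h hJ hJ1]
      have hz := mem_centralizer_singleton_iff.1 z.2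
      show c⁻¹ * (z : G) * c * J = J * (c⁻¹ * z * c)
      have hz' : (z : G) * (c * J * c⁻¹) = c * J * c⁻¹ * (z : G) := by rw [hc]; exact hz
      calc c⁻¹ * (z : G) * c * J = c⁻¹ * ((z : G) * (c * J * c⁻¹)) * c := by group
        _ = J * (c⁻¹ * z * c) := by rw [hz']; group
    have h1 := hCcomm _ (key x) _ (key y)
    have h2 := congrArg (fun z => c * z * c⁻¹) h1
    simpa [mul_assoc] using h2
  have hHyp : CfsgLib.AbInvCent.Hyp T := ⟨hnc, hnn, hcent⟩
  have hsq : ∀ c ∈ Cc T, c * c = 1 := fun c hc => by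
    have := CfsgLib.AbInvCent.sq_central hHyp hc
    rwa [center_bot_of_simple hnn, mem_bot] at this
  have hCA : CAGroup.Hyp T := ⟨hnc, hnn, fun t ht => ⟨hcent t ht, fun z hz => by
    obtain ⟨c, hc⟩ := isConj_iff.1 (isConj_inv h hJ hJ1 ht)
    have hz' : c⁻¹ * z * c ∈ Cc T := by
      rw [mem_cent_iff h hJ hJ1]
      have hz2 := mem_centralizer_singleton_iff.1 hz
      show c⁻¹ * z * c * J = J * (c⁻¹ * z * c)
      rw [← hc] at hz2
      calc c⁻¹ * z * c * J = c⁻¹ * (z * (c * J * c⁻¹)) * c := by group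
        _ = J * (c⁻¹ * z * c) := by rw [hz2]; group
    have h1 := congrArg (fun w => c * w * c⁻¹) (hsq _ hz')
    simpa [mul_assoc, pow_two] using h1⟩⟩
  obtain ⟨F, iF, iFt, hF, he⟩ := CfsgLib.InvTimesAlt.psl_of_hyp hCA
  exact ⟨le_antisymm (fun c hc => inv_mem_T h hc (hsq c hc)) (T_le_C h), F, iF, iFt, hF.trans h.card, he⟩

end CfsgLib.EqualConj
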