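import Cfsg.Agent.Lib.EqualConj.StabTrivial
import Cfsg.Agent.Lib.EqualConj.Simple
import Cfsg.Agent.Lib.EqualConj.Models
import Cfsg.Agent.Lib.PrimeGraphExt
import Cfsg.Agent.S0252

/-!
# The case of a non-normal elementary abelian Sylow 2-subgroup
-/

set_option autoImplicit false
set_option linter.style.haveILetI false
set_option linter.unusedSectionVars false

namespace CfsgLib.EqualConj

open Cfsg Subgroup

universe u

/-- Projective special linear groups over isomorphic fields. -/
theorem psl_congr {K L : Type*} [Field K] [Field L] (e : K ≃+* L) :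
    Nonempty (Matrix.ProjectiveSpecialLinearGroup (Fin 2) K ≃*
      Matrix.ProjectiveSpecialLinearGroup (Fin 2) L) := by
  let f : Matrix.SpecialLinearGroup (Fin 2) K →* Matrix.SpecialLinearGroup (Fin 2) L :=
    Matrix.SpecialLinearGroup.map e.toRingHom
  let g : Matrix.SpecialLinearGroup (Fin 2) L →* Matrix.SpecialLinearGroup (Fin 2) K :=
    Matrix.SpecialLinearGroup.map e.symm.toRingHom
  let φ : Matrix.SpecialLinearGroup (Fin 2) K ≃* Matrix.SpecialLinearGroup (Fin 2) L :=
    { f with
      invFun := g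
      left_inv := fun A => by ext i j; exact e.symm_apply_apply _
      right_inv := fun A => by ext i j; exact e.apply_symm_apply _ }
  refine ⟨QuotientGroup.congr _ _ φ ?_⟩
  ext x
  simp only [Subgroup.mem_map, Subgroup.mem_center_iff]
  constructor
  · rintro ⟨a, ha, rfl⟩ b
    obtain ⟨c, rfl⟩ := φ.surjective b
    show φ c * φ a = φ a * φ c
    rw [← map_mul, ← map_mul, ha c]
  · intro hh
    refine ⟨φ.symm x, fun b => φ.injective ?_, φ.apply_symm_apply x⟩
    simpa using hh (φ b)

variable {G : Type u} [Group G] [Finite G] {T : Sylow 2 G}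

/-- The groups with a non-normal elementary abelian Sylow 2-subgroup. -/
theorem Setup.almost_case (h : Setup T) (hnn : ¬ (T : Subgroup G).Normal) :
    (Nat.card (T : Subgroup G) = 4 ∧ Nonempty (G ≃* alternatingGroup (Fin 5))) ∨
    Nat.card (T : Subgroup G) ≠ 4 ∧ (Nonempty (G ≃* Matrix.ProjectiveSpecialLinearGroup (Fin 2) (GaloisField 2 3)) ∨
    Nonempty (G ≃* MulAut (Matrix.ProjectiveSpecialLinearGroup (Fin 2) (GaloisField 2 5)))) := by
  classical
  haveI : Fact (Nat.Prime 2) := ⟨Nat.prime_two⟩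
  obtain ⟨M, hMn, hTM, hS, hcent, hTnn⟩ := h.exists_simple hnn
  haveI := hMn
  haveI := hS
  obtain ⟨t, ht, hto⟩ := h.exists_invol
  have ht1 : t ≠ 1 := fun e => by rw [e, orderOf_one] at hto; norm_num at hto
  set q := Nat.card (T : Subgroup G) with hq
  set TM : Sylow 2 M := T.subtype hTM
  have hmem : ∀ x : M, x ∈ (TM : Subgroup M) ↔ (x : G) ∈ (T : Subgroup G) := fun x => Iff.rfl
  -- the centraliser and normaliser inside `M`
  have hC : Cc TM = (Cc T).subgroupOf M := by
    ext g
    simp only [mem_subgroupOf, mem_centralizer_iff]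
    exact ⟨fun hg z hz => congrArg Subtype.val (hg ⟨z, hTM hz⟩ hz), fun hg z hz => Subtype.ext (hg _ hz)⟩
  have hN : Nn TM = (Nn T ⊓ M).subgroupOf M := by
    ext n
    simp only [mem_subgroupOf, Subgroup.mem_inf, mem_normalizer_iff]
    constructor
    · intro hn
      refine ⟨fun z => ⟨fun hz => (hn ⟨z, hTM hz⟩).1 hz, fun hz => ?_⟩, n.2⟩
      have hzM : z ∈ M := by
        have := hMn.conj_mem _ (hTM hz) (n : G)⁻¹
        simpa [mul_assoc] using this
      exact (hn ⟨z, hzM⟩).2 hz
    · exact fun hn z => hn.1 z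
  have hindex : (Cc TM).relIndex (Nn TM) = q - 1 := by
    rw [hC, hN, Subgroup.relIndex_subgroupOf inf_le_right, hq, ← h.relIndex_cent (L := Nn T ⊓ M) inf_le_left ht ht1
      fun y hy hy1 => h.transitive_in hTM hS hTnn ht ht1 hy hy1, ← Subgroup.inf_relIndex_right,
      ← Subgroup.inf_relIndex_right (centralizer _)]
    congr 1
    refine le_antisymm (inf_le_inf (Cc_le_cent ht) le_rfl) fun g hg => ⟨?_, hg.2⟩
    exact h.stab_trivial hTM hS ht ht1 hg.2.2 (mem_centralizer_singleton_iff.1 hg.1)
  have hH : Hyp TM q :=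
    { card := Nat.card_congr (subgroupOfEquivOfLe hTM).toEquiv
      big := h.big
      sq := fun x hx => Subtype.ext (h.sq _ hx)
      cent := fun x hx hx1 g hg => by
        have := h.stab_trivial hTM hS hx (fun e => hx1 (Subtype.ext e)) g.2 (congrArg Subtype.val hg)
        rw [show centralizer ((TM : Subgroup M) : Set M) = Cc TM from rfl, hC]
        exact this
      conj := fun x hx y hy hx1 hy1 => by
        obtain ⟨n, hn, hny⟩ := h.transitive_in hTM hS hTnn hx (fun e => hx1 (Subtype.ext e)) hy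
          (fun e => hy1 (Subtype.ext e))
        refine ⟨⟨n, hn.2⟩, ?_, Subtype.ext hny⟩
        rw [show normalizer ((TM : Subgroup M) : Set M) = Nn TM from rfl, hN]
        exact hn
      index := hindex }
  have hq3 : q = 4 ∨ q = 8 ∨ q = 32 := by
    rcases h.cases ht ht1 with ⟨e, -⟩ | ⟨e, -⟩ | ⟨e, -⟩
    exacts [Or.inl e, Or.inr (Or.inl e), Or.inr (Or.inr e)]
  obtain ⟨hCT, F, iF, iFt, hF, ⟨f⟩⟩ := psl_of_simple hH hq3 hTnn
  haveI := Finite.of_equiv _ f.toEquiv
  haveI : CharP F 2 := by
    obtain ⟨p, hp⟩ := CharP.exists F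
    haveI := hp
    obtain ⟨k, hpp, hk⟩ := FiniteField.card F p
    rw [hF] at hk
    have h2 : (2 : ℕ) ∣ p ^ (k : ℕ) := by rcases hq3 with e | e | e <;> rw [← hk, e] <;> norm_num
    rw [(Nat.prime_dvd_prime_iff_eq Nat.prime_two hpp).mp (Nat.prime_two.dvd_of_dvd_pow h2)]
    exact hp
  haveI : Finite (MulAut (Matrix.ProjectiveSpecialLinearGroup (Fin 2) F)) :=
    Finite.of_injective (fun σ => (σ : _ → _)) DFunLike.coe_injective
  -- the embedding in the automorphism group
  set ψ : G →* MulAut (Matrix.ProjectiveSpecialLinearGroup (Fin 2) F) :=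
    (MulAut.congr f).toMonoidHom.comp (MulAut.conjNormal : G →* MulAut M)
  have hψ : Function.Injective ψ := by
    refine (MulAut.congr f).injective.comp ?_
    rw [injective_iff_map_eq_one]
    intro g hg
    have : g ∈ centralizer (M : Set G) := mem_centralizer_iff.2 fun m hm => by
      have h1 := congrArg (fun φ : MulAut M => ((φ ⟨m, hm⟩ : M) : G)) hg
      simp only [MulAut.conjNormal_apply, MulAut.one_apply] at h1
      exact (mul_inv_eq_iff_eq_mul.1 h1).symm
    rwa [hcent, mem_bot] at this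
  set d := M.index with hd
  have hGcard : Nat.card G = d * Nat.card M := (M.index_mul_card).symm
  have hMF : Nat.card M = Nat.card (Matrix.ProjectiveSpecialLinearGroup (Fin 2) F) := Nat.card_congr f.toEquiv
  have hdn : d ≤ Nat.card (F ≃+* F) := by
    have h1 := (Nat.card_le_card_of_injective ψ hψ).trans card_aut_le
    rw [hGcard, hMF, mul_comm] at h1
    exact Nat.le_of_mul_le_mul_left h1 Nat.card_pos
  have hdodd : ¬ 2 ∣ d := fun h2 => T.not_dvd_index (h2.trans (Subgroup.index_dvd_of_le hTM))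
  -- Frattini
  have hMN : d = M.relIndex (Nn T) := by
    have hfr := Sylow.normalizer_sup_eq_top TM
    have hmap : (TM : Subgroup M).map M.subtype = (T : Subgroup G) :=
      Subgroup.map_subgroupOf_eq_of_le hTM
    rw [hmap] at hfr
    rw [← Subgroup.relIndex_sup_right, hfr, Subgroup.relIndex_top_right, hd]
  have hNMcard : Nat.card ↥(Nn T ⊓ M) = (q - 1) * q := by
    have h1 : Nat.card (Nn TM) = (q - 1) * q := by
      have h2 := Subgroup.relIndex_mul_relIndex ⊥ (Cc TM) (Nn TM) bot_le C_le_N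
      rw [Subgroup.relIndex_bot_left, Subgroup.relIndex_bot_left, hindex, hCT, hH.card] at h2
      rw [← h2, mul_comm]
    rw [← h1, hN]
    exact (Nat.card_congr (subgroupOfEquivOfLe inf_le_right).toEquiv).symm
  have hNcard : Nat.card (Nn T) = d * Nat.card ↥(Nn T ⊓ M) := by
    have h2 := Subgroup.relIndex_mul_relIndex ⊥ (Nn T ⊓ M) (Nn T) bot_le inf_le_left
    rw [Subgroup.relIndex_bot_left, Subgroup.relIndex_bot_left, inf_comm, Subgroup.inf_relIndex_right,
      ← hMN] at h2
    rw [← h2, inf_comm, mul_comm]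
  haveI : Finite (F ≃+* F) := Finite.of_injective (fun σ : F ≃+* F => (σ : F → F)) DFunLike.coe_injective
  have haut : ∀ n, q = 2 ^ n → Nat.card (F ≃+* F) = n := fun n hn => by
    have := (CfsgLib.Chev.ringAut_cyclic_card 2 (show Nat.card F = 2 ^ n by rw [Nat.card_eq_fintype_card, hF, hn])).2
    exact this
  have hGM : d = 1 → Nonempty (G ≃* Matrix.ProjectiveSpecialLinearGroup (Fin 2) F) := fun hd1 =>
    ⟨(Subgroup.topEquiv.symm.trans (MulEquiv.subgroupCongr (Subgroup.index_eq_one.1 hd1).symm)).trans f⟩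
  rcases hq3 with e | e | e
  · -- four
    left
    rw [haut 2 e] at hdn
    obtain ⟨g⟩ := hGM (by omega)
    obtain ⟨a⟩ := Cfsg.Agent.S0252.result (F := F) (hF.trans e)
    exact ⟨e, ⟨g.trans a⟩⟩
  · -- eight
    right
    refine ⟨by omega, ?_⟩
    left
    rw [haut 3 e] at hdn
    have hd13 : d = 1 := by
      by_contra hd1
      have hd3 : d = 3 := by omega
      haveI : Fact (Nat.Prime 3) := ⟨Nat.prime_three⟩
      obtain ⟨x, hx⟩ := exists_prime_orderOf_dvd_card' (G := Nn T) 3 (by rw [hNcard, hd3]; exact dvd_mul_right _ _)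
      have hM3 : 3 ∣ Nat.card M := by
        rw [hMF, Nat.card_congr CfsgLib.PrimeGraphExt.pslEquiv.toEquiv, CfsgLib.SLCard.card_SL_two, hF, e]
        norm_num
      have hxo : orderOf (x : G) = 3 := by rw [Subgroup.orderOf_coe, hx]
      have hxM : (x : G) ∈ M := h.eoc.mem_normal hM3 hxo
      have h3 : 3 ∣ Nat.card ↥(Nn T ⊓ M) := hxo ▸ Subgroup.orderOf_dvd_natCard _ ⟨x.2, hxM⟩
      rw [hNMcard, e] at h3
      norm_num at h3
    obtain ⟨g⟩ := hGM hd13
    haveI : Finite (GaloisField 2 3) := inferInstance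
    haveI := Fintype.ofFinite (GaloisField 2 3)
    obtain ⟨c⟩ := psl_congr (FiniteField.ringEquivOfCardEq (K := F) (K' := GaloisField 2 3)
      (by rw [hF, e, ← Nat.card_eq_fintype_card, GaloisField.card 2 3 (by norm_num)]; norm_num))
    exact ⟨g.trans c⟩
  · -- thirty-two
    right
    refine ⟨by omega, ?_⟩
    right
    rw [haut 5 e] at hdn
    have h5 : 5 ∣ d := by
      have h1 : 5 ∣ Nat.card (Nn T) := by
        have h2 := h.relIndex_C ht ht1
        rcases h.cases ht ht1 with ⟨e', -⟩ | ⟨e', -⟩ | ⟨-, e5, -⟩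
        · rw [← hq] at e'; omega
        · rw [← hq] at e'; omega
        rw [e5] at h2
        exact (Dvd.intro _ h2.symm).trans (Subgroup.relIndex_dvd_card _ _)
      rw [hNcard, hNMcard, e] at h1
      exact Nat.Coprime.dvd_of_dvd_mul_right (by norm_num) h1
    have hd5 : d = 5 := by
      have : d ≠ 0 := fun h0 => hdodd (h0 ▸ dvd_zero 2)
      have := Nat.le_of_dvd (Nat.pos_of_ne_zero this) h5
      omega
    have hbij : Function.Bijective ψ := by
      rw [Nat.bijective_iff_injective_and_card]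
      refine ⟨hψ, le_antisymm (Nat.card_le_card_of_injective ψ hψ) ?_⟩
      refine card_aut_le.trans (le_of_eq ?_)
      rw [hGcard, hMF, haut 5 e, hd5, mul_comm]
    haveI := Fintype.ofFinite (GaloisField 2 5)
    obtain ⟨c⟩ := psl_congr (FiniteField.ringEquivOfCardEq (K := F) (K' := GaloisField 2 5)
      (by rw [hF, e, ← Nat.card_eq_fintype_card, GaloisField.card 2 5 (by norm_num)]; norm_num))
    exact ⟨(MulEquiv.ofBijective ψ hbij).trans (MulAut.congr c)⟩

end CfsgLib.EqualConj
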