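import Mathlib

/-!
# An inequality for signed degrees
-/

set_option autoImplicit false

namespace CfsgLib.EqualConj

/-- With squares adding up to `q` and signed degrees adding up to zero, the cubes over the degrees add up
to at least one sixth. -/
theorem sigma_lower {ι : Type*} [DecidableEq ι] {q : ℕ} (hq : q = 4 ∨ q = 8 ∨ q = 32) (s : Finset ι)
    (i₀ : ι) (hi₀ : i₀ ∈ s) (a : ι → ℤ) (d m : ι → ℕ) (h0a : a i₀ = 1) (h0d : d i₀ = 1)
    (hm : ∀ i ∈ s, i ≠ i₀ → (d i : ℤ) + ((q : ℤ) - 1) * a i = q * m i ∧ 1 ≤ m i)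
    (hsq : ∑ i ∈ s, a i ^ 2 = q) (hsum : ∑ i ∈ s, a i * d i = 0) :
    (1 / 6 : ℚ) ≤ ∑ i ∈ s, (a i : ℚ) ^ 3 / (d i : ℚ) := by
  classical
  have hq4 : 4 ≤ q := by omega
  have hq4' : (4 : ℤ) ≤ q := by exact_mod_cast hq4
  have hneg : ∀ i ∈ s, a i < 0 → i ≠ i₀ ∧ (q : ℤ) + ((q : ℤ) - 1) * (-a i) ≤ d i := fun i hi ha => by
    have hne : i ≠ i₀ := by rintro rfl; omega
    obtain ⟨h1, h2⟩ := hm i hi hne
    refine ⟨hne, ?_⟩
    have : (q : ℤ) * 1 ≤ q * m i := mul_le_mul_of_nonneg_left (by exact_mod_cast h2) (by positivity)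
    nlinarith
  -- another positive value
  obtain ⟨j, hj, hji, hja⟩ : ∃ j ∈ s, j ≠ i₀ ∧ 0 < a j := by
    by_contra hc
    push Not at hc
    rw [← Finset.add_sum_erase s _ hi₀, h0a, h0d] at hsum
    have hle : ∀ i ∈ s.erase i₀, a i * d i ≤ 0 := fun i hi =>
      mul_nonpos_of_nonpos_of_nonneg (hc i (Finset.mem_of_mem_erase hi) (Finset.ne_of_mem_erase hi)) (by positivity)
    obtain ⟨i, hi, hai⟩ : ∃ i ∈ s.erase i₀, a i < 0 := by
      by_contra hc'
      push Not at hc'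
      rw [Finset.sum_eq_zero fun i hi => by
        rw [le_antisymm (hc i (Finset.mem_of_mem_erase hi) (Finset.ne_of_mem_erase hi)) (hc' i hi), zero_mul]] at hsum
      norm_num at hsum
    have h1 := (hneg i (Finset.mem_of_mem_erase hi) hai).2
    have h2 : a i * d i ≤ -1 * 4 := by
      have h3 : (4 : ℤ) ≤ d i := by nlinarith
      nlinarith
    rw [← Finset.add_sum_erase (s.erase i₀) _ hi] at hsum
    have h4 : ∑ x ∈ (s.erase i₀).erase i, a x * d x ≤ 0 :=
      Finset.sum_nonpos fun x hx => hle x (Finset.mem_of_mem_erase hx)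
    simp at hsum
    linarith
  -- the negative squares
  have hnegsq : ∑ i ∈ s.filter (fun i => a i < 0), a i ^ 2 ≤ (q : ℤ) - 2 := by
    have hsub : ({i₀, j} : Finset ι) ⊆ s.filter (fun i => ¬ a i < 0) := fun x hx => by
      rw [Finset.mem_insert, Finset.mem_singleton] at hx
      rcases hx with rfl | rfl <;> rw [Finset.mem_filter]
      · exact ⟨hi₀, by omega⟩
      · exact ⟨hj, by omega⟩
    have h1 := Finset.sum_le_sum_of_subset_of_nonneg hsub (f := fun i => a i ^ 2) fun _ _ _ => sq_nonneg _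
    rw [Finset.sum_pair (Ne.symm hji)] at h1
    have h2 := Finset.sum_filter_add_sum_filter_not s (fun i => a i < 0) (fun i => a i ^ 2)
    rw [hsq] at h2
    rw [h0a] at h1
    nlinarith
  -- the bound on each negative term
  set c : ℚ := 5 / (6 * ((q : ℚ) - 2)) with hc
  have hterm : ∀ i ∈ s.filter (fun i => a i < 0), -(c * (a i : ℚ) ^ 2) ≤ (a i : ℚ) ^ 3 / (d i : ℚ) := by
    intro i hi
    obtain ⟨his, hai⟩ := Finset.mem_filter.1 hi
    have hd := (hneg i his hai).2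
    obtain ⟨b, hb⟩ : ∃ b : ℕ, a i = -(b : ℤ) := ⟨(-a i).toNat, by omega⟩
    have hb2 : b ^ 2 ≤ q - 2 := by
      have := (Finset.single_le_sum (f := fun i => a i ^ 2) (fun _ _ => sq_nonneg _) hi).trans hnegsq
      rw [hb, neg_sq] at this
      zify [show 2 ≤ q by omega]
      exact this
    have hkey : 6 * b * (q - 2) ≤ 5 * (q + (q - 1) * b) := by
      rcases hq with rfl | rfl | rfl
      · have : b ≤ 1 := by nlinarith
        interval_cases b <;> norm_num
      · have : b ≤ 2 := by nlinarith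
        interval_cases b <;> norm_num
      · have : b ≤ 5 := by nlinarith
        interval_cases b <;> norm_num
    have hd' : (q : ℚ) + ((q : ℚ) - 1) * b ≤ (d i : ℚ) := by
      rw [hb, neg_neg] at hd
      exact_mod_cast hd
    have hkey' : (6 : ℚ) * b * ((q : ℚ) - 2) ≤ 5 * ((q : ℚ) + ((q : ℚ) - 1) * b) := by
      have h1 : ((6 * b * (q - 2) : ℕ) : ℚ) ≤ ((5 * (q + (q - 1) * b) : ℕ) : ℚ) := Nat.cast_le.2 hkey
      push_cast [Nat.cast_sub (show 2 ≤ q by omega), Nat.cast_sub (show 1 ≤ q by omega)] at h1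
      exact h1
    have hq2 : (0 : ℚ) < (q : ℚ) - 2 := by
      have : (4 : ℚ) ≤ q := by exact_mod_cast hq4
      linarith
    have hdpos : (0 : ℚ) < d i := by
      have : (0 : ℚ) ≤ ((q : ℚ) - 1) * b := mul_nonneg (by linarith) (Nat.cast_nonneg b)
      linarith
    rw [hb]
    push_cast
    rw [hc, le_div_iff₀ hdpos]
    have h3 : (6 : ℚ) * b * ((q : ℚ) - 2) ≤ 5 * d i := hkey'.trans (by linarith)
    have h5 : (0 : ℚ) < 6 * ((q : ℚ) - 2) := by linarith
    have h6 : (b : ℚ) ≤ 5 / (6 * ((q : ℚ) - 2)) * d i := by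
      rw [div_mul_eq_mul_div, le_div_iff₀ h5]
      linarith
    nlinarith [mul_le_mul_of_nonneg_left h6 (sq_nonneg (b : ℚ))]
  have hpos : (1 : ℚ) ≤ ∑ i ∈ s.filter (fun i => ¬ a i < 0), (a i : ℚ) ^ 3 / (d i : ℚ) := by
    refine le_trans ?_ (Finset.single_le_sum (fun i hi => ?_) (Finset.mem_filter.2 ⟨hi₀, by omega⟩ :
      i₀ ∈ s.filter (fun i => ¬ a i < 0)))
    · rw [h0a, h0d]; norm_num
    · have h0 : (0 : ℚ) ≤ a i := by
        exact_mod_cast not_lt.1 (Finset.mem_filter.1 hi).2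
      positivity
  rw [← Finset.sum_filter_add_sum_filter_not s (fun i => a i < 0)]
  have h1 := Finset.sum_le_sum hterm
  rw [Finset.sum_neg_distrib, ← Finset.mul_sum] at h1
  have h2 : (∑ i ∈ s.filter (fun i => a i < 0), (a i : ℚ) ^ 2) ≤ (q : ℚ) - 2 := by
    exact_mod_cast hnegsq
  have h3 : c * ((q : ℚ) - 2) = 5 / 6 := by
    have : (q : ℚ) - 2 ≠ 0 := by
      have : (4 : ℚ) ≤ q := by exact_mod_cast hq4
      linarith
    rw [hc]
    field_simp
  have h4 : 0 ≤ c := by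
    have : (4 : ℚ) ≤ q := by exact_mod_cast hq4
    rw [hc]
    apply div_nonneg <;> linarith
  nlinarith [mul_le_mul_of_nonneg_left h2 h4]

end CfsgLib.EqualConj
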