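import Cfsg.Agent.Lib.PComplement
import Cfsg.Agent.Lib.TwoFusion.StrongEmb

/-!
# An elementary abelian Sylow 2-subgroup with a single centraliser and transitive normaliser: first facts
-/

set_option autoImplicit false
set_option linter.unusedSectionVars false

namespace CfsgLib.EqualConj

open Cfsg Subgroup
open CfsgLib.Involutions (mul_self_eq_one_of_orderOf inv_eq_self_of_orderOf orderOf_conj)

variable {G : Type*} [Group G] [Finite G]

/-- All nontrivial elements of the Sylow subgroup have one centraliser and are conjugate in the normaliser,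
whose quotient by that centraliser has order one less than the Sylow subgroup. -/
structure Hyp (T : Sylow 2 G) (q : ℕ) : Prop where
  card : Nat.card (T : Subgroup G) = q
  big : 4 ≤ q
  sq : ∀ x ∈ (T : Subgroup G), x * x = 1
  cent : ∀ x ∈ (T : Subgroup G), x ≠ 1 → ∀ g : G, g * x = x * g → g ∈ centralizer ((T : Subgroup G) : Set G)
  conj : ∀ x ∈ (T : Subgroup G), ∀ y ∈ (T : Subgroup G), x ≠ 1 → y ≠ 1 →
    ∃ h ∈ normalizer ((T : Subgroup G) : Set G), h * x * h⁻¹ = y
  index : (centralizer ((T : Subgroup G) : Set G)).relIndex (normalizer ((T : Subgroup G) : Set G)) = q - 1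

/-- The centraliser of the Sylow subgroup. -/
abbrev Cc (T : Sylow 2 G) : Subgroup G := centralizer ((T : Subgroup G) : Set G)

/-- The normaliser of the Sylow subgroup. -/
abbrev Nn (T : Sylow 2 G) : Subgroup G := normalizer ((T : Subgroup G) : Set G)

variable {T : Sylow 2 G} {q : ℕ}

theorem T_comm (h : Hyp T q) {x y : G} (hx : x ∈ (T : Subgroup G)) (hy : y ∈ (T : Subgroup G)) :
    x * y = y * x := by
  have hi : ∀ z ∈ (T : Subgroup G), z⁻¹ = z := fun z hz => inv_eq_of_mul_eq_one_right (h.sq z hz)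
  calc x * y = (x * y)⁻¹ := (hi _ (mul_mem hx hy)).symm
    _ = y * x := by rw [mul_inv_rev, hi y hy, hi x hx]

theorem T_le_C (h : Hyp T q) : (T : Subgroup G) ≤ Cc T := fun _ hx =>
  mem_centralizer_iff.2 fun _ hy => T_comm h hy hx

theorem C_le_N : Cc T ≤ Nn T := fun c hc => by
  rw [mem_normalizer_iff]
  intro x
  have hcx : ∀ z ∈ (T : Subgroup G), c * z * c⁻¹ = z := fun z hz => by
    rw [← mem_centralizer_iff.1 hc z hz, mul_inv_cancel_right]
  refine ⟨fun hx => by rw [hcx x hx]; exact hx, fun hx => ?_⟩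
  have h1 := hcx _ hx
  have h2 : c * x * c⁻¹ = x := by
    have h3 := congrArg (fun z => c⁻¹ * z * c) h1
    simp only [mul_assoc, inv_mul_cancel, mul_one, inv_mul_cancel_left] at h3
    simpa [mul_assoc] using h3
  rwa [h2] at hx

theorem ord_two (h : Hyp T q) {x : G} (hx : x ∈ (T : Subgroup G)) (h1 : x ≠ 1) : orderOf x = 2 :=
  orderOf_eq_prime (by rw [pow_two]; exact h.sq x hx) h1

theorem mem_cent_iff (h : Hyp T q) {x : G} (hx : x ∈ (T : Subgroup G)) (h1 : x ≠ 1) {g : G} :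
    g ∈ Cc T ↔ Commute g x :=
  ⟨fun hg => (mem_centralizer_iff.1 hg x hx).symm, fun hg => h.cent x hx h1 g hg.eq⟩

theorem exists_J (h : Hyp T q) : ∃ J ∈ (T : Subgroup G), J ≠ 1 := by
  by_contra hc
  push Not at hc
  have : (T : Subgroup G) = ⊥ := (eq_bot_iff_forall _).2 hc
  have h4 := h.card
  rw [this, Subgroup.card_bot] at h4
  have := h.big
  omega

theorem isConj_inv (h : Hyp T q) {J u : G} (hJ : J ∈ (T : Subgroup G)) (hJ1 : J ≠ 1)
    (hu : orderOf u = 2) : IsConj J u := by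
  haveI : Fact (Nat.Prime 2) := ⟨Nat.prime_two⟩
  obtain ⟨S, hS⟩ := (IsPGroup.of_card (n := 1) (by rw [Nat.card_zpowers, hu, pow_one]) :
    IsPGroup 2 (Subgroup.zpowers u)).exists_le_sylow
  obtain ⟨x, hxS⟩ := MulAction.exists_smul_eq G S T
  have hz : x * u * x⁻¹ ∈ (T : Subgroup G) := by
    rw [← hxS, Sylow.coe_subgroup_smul]
    exact ⟨u, hS (Subgroup.mem_zpowers u), rfl⟩
  have hne : x * u * x⁻¹ ≠ 1 := fun e => by
    rw [conj_eq_one_iff] at e
    rw [e, orderOf_one] at hu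
    exact absurd hu (by norm_num)
  obtain ⟨c, -, hc⟩ := h.conj J hJ _ hz hJ1 hne
  exact (isConj_iff.2 ⟨c, hc⟩ : IsConj J (x * u * x⁻¹)).trans (isConj_iff.2 ⟨x⁻¹, by group⟩)

/-- The centraliser of the Sylow subgroup has a normal complement to it, of odd order. -/
theorem exists_O (h : Hyp T q) : ∃ O : Subgroup (Cc T), O.Normal ∧ ¬ 2 ∣ Nat.card O ∧ O.index = q ∧
    (∀ c : Cc T, ∃ e ∈ (T : Subgroup G), ∃ o ∈ O, (c : G) = e * o) ∧
    (∀ c : Cc T, (c : G) ∈ (T : Subgroup G) → c ∈ O → c = 1) := by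
  haveI : Fact (Nat.Prime 2) := ⟨Nat.prime_two⟩
  set Q : Sylow 2 (Cc T) := T.subtype (T_le_C h) with hQ
  have hQm : ∀ c : Cc T, c ∈ (Q : Subgroup (Cc T)) ↔ (c : G) ∈ (T : Subgroup G) := fun c => Iff.rfl
  obtain ⟨Q', O, hO, hOQ⟩ := CfsgLib.hasNormalPComplement_of_normalizer_le_centralizer Q fun c _ =>
    mem_centralizer_iff.2 fun x hx => Subtype.ext (mem_centralizer_iff.1 c.2 x ((hQm x).1 hx))
  haveI : (Q : Subgroup (Cc T)).Normal := ⟨fun x hx c => by
    rw [hQm] at hx ⊢
    rw [Subgroup.coe_mul, Subgroup.coe_mul, Subgroup.coe_inv,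
      ← mem_centralizer_iff.1 c.2 x hx, mul_inv_cancel_right]
    exact hx⟩
  haveI := Sylow.unique_of_normal Q inferInstance
  obtain rfl : Q' = Q := Subsingleton.elim _ _
  haveI := hO
  have hcQ : Nat.card (Q : Subgroup (Cc T)) = q :=
    (Nat.card_congr (Subgroup.subgroupOfEquivOfLe (T_le_C h)).toEquiv).trans h.card
  refine ⟨O, hO, ?_, by rw [hOQ.symm.index_eq_card, hcQ], fun c => ?_, fun c hc hcO => ?_⟩
  · rw [← hOQ.index_eq_card]
    exact Q.not_dvd_index
  · obtain ⟨⟨o, e⟩, he⟩ := hOQ.2 c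
    dsimp only at he
    refine ⟨((e : Cc T) : G), (hQm _).1 e.2, o, o.2, ?_⟩
    rw [← he, Subgroup.coe_mul]
    exact (mem_centralizer_iff.1 (o : Cc T).2 _ ((hQm _).1 e.2)).symm
  · exact Subgroup.disjoint_def.1 hOQ.disjoint hcO ((hQm c).2 hc)

/-- Elements of order two centralising the Sylow subgroup lie in it. -/
theorem inv_mem_T (h : Hyp T q) {u : G} (hu : u ∈ Cc T) (h2 : u * u = 1) : u ∈ (T : Subgroup G) := by
  obtain ⟨O, -, hodd, -, hdec, -⟩ := exists_O h
  obtain ⟨e, he, o, ho, heo⟩ := hdec ⟨u, hu⟩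
  simp only at heo
  have hc : Commute e ((o : G)) := mem_centralizer_iff.1 o.2 e he
  have h3 : ((o : G)) ^ 2 = 1 := by
    have h4 := hc.mul_pow 2
    rw [← heo, pow_two, h2, pow_two e, h.sq e he, one_mul] at h4
    exact h4.symm
  have h5 : orderOf ((o : G)) = 1 := by
    rcases (Nat.dvd_prime Nat.prime_two).1 (orderOf_dvd_of_pow_eq_one h3) with h6 | h6
    · exact h6
    · exfalso
      refine hodd ?_
      rw [← h6, Subgroup.orderOf_coe]
      exact Subgroup.orderOf_dvd_natCard O ho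
  rw [orderOf_eq_one_iff] at h5
  rwa [heo, h5, mul_one]

theorem index_eq (h : Hyp T q) : (Cc T).index = (q - 1) * (Nn T).index := by
  rw [← h.index, Subgroup.relIndex_mul_index (C_le_N (T := T))]

end CfsgLib.EqualConj
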