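import Cfsg.Agent.Lib.EqualConj.Minimal

/-!
# Transitivity and trivial stabilisers inside the simple normal subgroup
-/

set_option autoImplicit false
set_option linter.style.haveILetI false
set_option linter.unusedSectionVars false

namespace CfsgLib.EqualConj

open Cfsg Subgroup

universe u

variable {G : Type u} [Group G] [Finite G] {T : Sylow 2 G}

theorem Cc_normal_in (T : Sylow 2 G) {L : Subgroup G} (hL : L ≤ Nn T) : ((Cc T).subgroupOf L).Normal := by
  refine ⟨fun c hc g => ?_⟩
  rw [mem_subgroupOf, mem_centralizer_iff] at hc ⊢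
  intro z hz
  have h1 := hc _ ((mem_normalizer_iff''.1 (hL g.2) z).1 hz)
  simp only [Subgroup.coe_mul, Subgroup.coe_inv]
  calc z * ((g : G) * c * (g : G)⁻¹) = g * ((g : G)⁻¹ * z * g * c) * (g : G)⁻¹ := by group
    _ = g * c * (g : G)⁻¹ * z := by rw [h1]; group

/-- The prime that the order of the Sylow subgroup leaves. -/
theorem Setup.prime_sub_one (h : Setup T) {t : G} (ht : t ∈ (T : Subgroup G)) (ht1 : t ≠ 1) :
    (Nat.card (T : Subgroup G) - 1).Prime := by
  rcases h.cases ht ht1 with ⟨hq, -⟩ | ⟨hq, -⟩ | ⟨hq, -⟩ <;> rw [hq] <;> norm_num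

/-- A normal subgroup containing the Sylow subgroup, simple and not 2-nilpotent, meets the normaliser in a
group transitive on the nontrivial elements. -/
theorem Setup.transitive_in (h : Setup T) {M : Subgroup G} [hMn : M.Normal] (hTM : (T : Subgroup G) ≤ M)
    (hS : IsSimpleGroup M) (hTnn : ¬ ((T.subtype hTM : Sylow 2 M) : Subgroup M).Normal) {t y : G}
    (ht : t ∈ (T : Subgroup G)) (ht1 : t ≠ 1) (hy : y ∈ (T : Subgroup G)) (hy1 : y ≠ 1) :
    ∃ n ∈ Nn T ⊓ M, n * t * n⁻¹ = y := by
  haveI : Fact (Nat.Prime 2) := ⟨Nat.prime_two⟩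
  set N := Nn T
  set S := (N ⊓ M).subgroupOf N
  haveI : S.Normal := ⟨fun x hx g => ⟨(g * x * g⁻¹).2, hMn.conj_mem _ hx.2 (g : G)⟩⟩
  set H := fun s : G => (centralizer ({s} : Set G)).subgroupOf N
  by_cases htop : ∀ s ∈ (T : Subgroup G), s ≠ 1 → S ≤ H s
  · exfalso
    set P : Sylow 2 M := T.subtype hTM
    have hnc : normalizer ((P : Subgroup M) : Set M) ≤ centralizer ((P : Subgroup M) : Set M) := by
      intro n hn
      have hnN : (n : G) ∈ N := by
        rw [mem_normalizer_iff]
        intro z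
        constructor
        · intro hz
          exact (mem_normalizer_iff.1 hn ⟨z, hTM hz⟩).1 hz
        · intro hz
          have hzM : z ∈ M := by
            have := hMn.conj_mem _ (hTM hz) (n : G)⁻¹
            simpa [mul_assoc] using this
          exact (mem_normalizer_iff.1 hn ⟨z, hzM⟩).2 hz
      refine mem_centralizer_iff.2 fun z hz => Subtype.ext ?_
      by_cases hz1 : (z : G) = 1
      · simp [hz1]
      have hm : (⟨n, hnN⟩ : N) ∈ S := ⟨hnN, n.2⟩
      exact (mem_centralizer_singleton_iff.1 (htop _ hz hz1 hm)).symm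
    obtain ⟨P', K, hK, hKP⟩ := CfsgLib.hasNormalPComplement_of_normalizer_le_centralizer P hnc
    rcases hS.eq_bot_or_eq_top_of_normal K hK with e | e
    · refine hTnn ?_
      have htop : (P' : Subgroup M) = ⊤ := by
        rw [e] at hKP
        exact Subgroup.isComplement'_bot_left.1 hKP
      haveI : (P' : Subgroup M).Normal := htop ▸ inferInstance
      haveI := Sylow.unique_of_normal P' inferInstance
      rw [Subsingleton.elim P P']
      infer_instance
    · rw [e] at hKP
      have hb : (P' : Subgroup M) = ⊥ := Subgroup.isComplement'_top_left.1 hKP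
      have h1 : Nat.card (P' : Subgroup M) = Nat.card (T : Subgroup G) := by
        rw [Sylow.card_eq_multiplicity P', ← Sylow.card_eq_multiplicity P]
        exact Nat.card_congr (subgroupOfEquivOfLe hTM).toEquiv
      rw [hb, Subgroup.card_bot] at h1
      have := h.big
      omega
  push Not at htop
  obtain ⟨s, hs, hs1, hsS⟩ := htop
  -- the join is everything
  have hidx : ∀ {s : G}, s ∈ (T : Subgroup G) → s ≠ 1 → (H s).index = Nat.card (T : Subgroup G) - 1 :=
    fun hs hs1 => h.relIndex_cent le_rfl hs hs1 (fun y hy hy1 => h.transitive hs hy hs1 hy1)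
  have hsup : S ⊔ H s = ⊤ := by
    rcases (Nat.dvd_prime (h.prime_sub_one ht ht1)).1 ((hidx hs hs1) ▸
      Subgroup.index_dvd_of_le (le_sup_right (a := S) (b := H s))) with e | e
    · exact Subgroup.index_eq_one.1 e
    · exfalso
      refine hsS ?_
      have heq : H s = S ⊔ H s := by
        by_contra hne
        have hlt := Subgroup.index_strictAnti (lt_of_le_of_ne le_sup_right hne)
        rw [e, hidx hs hs1] at hlt
        exact lt_irrefl _ hlt
      exact heq ▸ le_sup_left
  have hgo : ∀ z ∈ (T : Subgroup G), z ≠ 1 → ∃ n ∈ N ⊓ M, n * s * n⁻¹ = z := by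
    intro z hz hz1
    obtain ⟨g, hg, hgz⟩ := h.transitive hs hz hs1 hz1
    have hmem : (⟨g, hg⟩ : N) ∈ S ⊔ H s := hsup ▸ Subgroup.mem_top _
    obtain ⟨a, ha, b, hb, hab⟩ := Subgroup.mem_sup_of_normal_left.1 hmem
    refine ⟨(a : G), ha, ?_⟩
    have hbs : (b : G) * s = s * b := mem_centralizer_singleton_iff.1 hb
    rw [← hgz]
    have h1 : g = (a : G) * b := (congrArg Subtype.val hab).symm
    rw [h1]
    calc (a : G) * s * (a : G)⁻¹ = a * (s * b * (b : G)⁻¹) * (a : G)⁻¹ := by group
      _ = (a : G) * b * s * ((a : G) * b)⁻¹ := by rw [← hbs]; group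
  obtain ⟨n₁, hn₁, e₁⟩ := hgo t ht ht1
  obtain ⟨n₂, hn₂, e₂⟩ := hgo y hy hy1
  refine ⟨n₂ * n₁⁻¹, mul_mem hn₂ (inv_mem hn₁), ?_⟩
  rw [← e₁, ← e₂]
  group

/-- An involution normalising an abelian `p`-subgroup centralises it, for `p` dividing an involution
centraliser. -/
theorem invol_centralizes (hE : EOC G) {t u : G} {p : ℕ} [Fact p.Prime] (hp2 : p ≠ 2) (ht : orderOf t = 2)
    (hu : orderOf u = 2) (hdvd : p ∣ Nat.card (centralizer ({t} : Set G))) {A : Subgroup G} (hA : IsPGroup p A)
    (hAc : ∀ a ∈ A, ∀ b ∈ A, a * b = b * a) (hn : ∀ a ∈ A, u * a * u⁻¹ ∈ A) {x : G} (hx : x ∈ A) :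
    u * x = x * u := by
  have huu : u * u = 1 := by rw [← pow_two, ← hu, pow_orderOf_eq_one]
  have hui : u⁻¹ = u := inv_eq_of_mul_eq_one_right huu
  set y := x⁻¹ * (u * x * u⁻¹) with hy
  have hxA := hn x hx
  have hflip : u * y * u⁻¹ = y⁻¹ := by
    have h1 : u * (u * x * u⁻¹) * u⁻¹ = x := by
      rw [hui, ← mul_assoc, ← mul_assoc, huu, one_mul, mul_assoc, huu, mul_one]
    calc u * y * u⁻¹ = (u * x⁻¹ * u⁻¹) * (u * (u * x * u⁻¹) * u⁻¹) := by rw [hy]; group
      _ = (u * x * u⁻¹)⁻¹ * x := by rw [h1]; group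
      _ = y⁻¹ := by rw [hy]; group
  by_cases hy1 : y = 1
  · rw [hy, inv_mul_eq_one] at hy1
    exact (eq_mul_inv_iff_mul_eq.1 hy1).symm
  exfalso
  have hyA : y ∈ A := mul_mem (inv_mem hx) hxA
  obtain ⟨k, hk⟩ := IsPGroup.iff_orderOf.1 hA ⟨y, hyA⟩
  rw [Subgroup.orderOf_mk] at hk
  have hpd : p ∣ orderOf y := by
    rw [hk]
    refine dvd_pow_self p fun h0 => hy1 (orderOf_eq_one_iff.1 ?_)
    rw [hk, h0, pow_zero]
  refine no_inverts hE hp2 ht hu hdvd (orderOf_pow_orderOf_div (orderOf_pos y).ne' hpd) ?_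
  rw [← conj_pow, hflip, inv_pow]

/-- The fixed points of a stabilising element on the Sylow subgroup. -/
theorem Setup.fixed_eq (h : Setup T) {t s : G} {r a : ℕ} [hr : Fact r.Prime]
    (hqr : (Nat.card (T : Subgroup G) = 8 ∧ r = 3) ∨ (Nat.card (T : Subgroup G) = 32 ∧ r = 5))
    (ht : t ∈ (T : Subgroup G)) (ht1 : t ≠ 1) (hst : s * t = t * s) (hso : orderOf s = r ^ a)
    (hsC : s ∉ Cc T) {z : G} (hz : z ∈ (T : Subgroup G)) (hsz : s * z = z * s) : z = 1 ∨ z = t := by
  classical
  have hsN : s ∈ Nn T := h.cent_le_N ht ht1 (mem_centralizer_singleton_iff.2 hst)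
  set P := (T : Subgroup G).subgroupOf (Nn T)
  haveI : P.Normal := normal_in_normalizer
  set s' : Nn T := ⟨s, hsN⟩
  letI act : MulAction (zpowers s') P :=
    MulAction.compHom P ((MulAut.conjNormal (H := P)).comp (zpowers s').subtype)
  have hpg : IsPGroup r (zpowers s') :=
    IsPGroup.of_card (n := a) (by rw [Nat.card_zpowers, Subgroup.orderOf_mk, hso])
  have hmod := hpg.card_modEq_card_fixedPoints P
  set F := ((T : Subgroup G) ⊓ centralizer ({s} : Set G)) with hF
  have hfix : Nat.card (MulAction.fixedPoints (zpowers s') P) = Nat.card F := by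
    refine Nat.card_congr
      { toFun := fun v => ⟨((v : P) : Nn T), (v : P).2, ?_⟩
        invFun := fun v => ⟨⟨⟨v, le_normalizer v.2.1⟩, v.2.1⟩, ?_⟩
        left_inv := fun v => rfl
        right_inv := fun v => rfl }
    · have h1 : MulAut.conjNormal (H := P) s' (v : P) = (v : P) := v.2 ⟨s', mem_zpowers s'⟩
      have h2 := congrArg (fun w : P => ((w : Nn T) : G)) h1
      simp only [MulAut.conjNormal_apply, Subgroup.coe_mul, Subgroup.coe_inv] at h2
      refine mem_centralizer_singleton_iff.2 ?_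
      exact (mul_inv_eq_iff_eq_mul.1 h2).symm
    · rintro ⟨w, hw⟩
      have hcw : Commute (s : G) v := (mem_centralizer_singleton_iff.1 v.2.2).symm
      obtain ⟨k, hk⟩ := hw
      refine Subtype.ext (Subtype.ext ?_)
      show ((MulAut.conjNormal (H := P) w _ : P) : Nn T).1 = (v : G)
      simp only [MulAut.conjNormal_apply, Subgroup.coe_mul, Subgroup.coe_inv]
      rw [← hk]
      show (s : G) ^ k * v * ((s : G) ^ k)⁻¹ = v
      rw [(hcw.zpow_left k).eq, mul_inv_cancel_right]
  have hPc : Nat.card P = Nat.card (T : Subgroup G) := Nat.card_congr (subgroupOfEquivOfLe le_normalizer).toEquiv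
  rw [hfix, hPc] at hmod
  have hFdvd : Nat.card F ∣ Nat.card (T : Subgroup G) := Subgroup.card_dvd_of_le inf_le_left
  have hFlt : Nat.card F ≠ Nat.card (T : Subgroup G) := fun e => by
    have heq : F = (T : Subgroup G) := Subgroup.eq_of_le_of_card_ge inf_le_left e.ge
    refine hsC (mem_centralizer_iff.2 fun w hw => ?_)
    exact mem_centralizer_singleton_iff.1 ((heq ▸ hw : w ∈ F).2)
  have h2F : Nat.card F = 2 := by
    have htF : t ∈ F := ⟨ht, mem_centralizer_singleton_iff.2 hst.symm⟩
    have h1 : 2 ≤ Nat.card F := by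
      by_contra hc
      have := Subgroup.eq_bot_of_card_le F (by omega)
      rw [this, mem_bot] at htF
      exact ht1 htF
    have hle := Nat.le_of_dvd Nat.card_pos hFdvd
    unfold Nat.ModEq at hmod
    generalize Nat.card F = f at *
    rcases hqr with ⟨hq, rfl⟩ | ⟨hq, rfl⟩ <;> rw [hq] at hFdvd hFlt hle hmod <;>
      interval_cases f <;> first | rfl | (revert hFdvd hFlt hmod; norm_num)
  by_contra hc
  push Not at hc
  haveI := Fintype.ofFinite F
  have : ({1, t, z} : Finset G).card ≤ Nat.card F := by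
    rw [Nat.card_eq_fintype_card, ← Fintype.card_coe]
    refine Fintype.card_le_of_injective (fun v => (⟨(v : G), ?_⟩ : F)) fun v w hvw => ?_
    · have := v.2
      simp only [Finset.mem_insert, Finset.mem_singleton] at this
      rcases this with e | e | e <;> rw [e]
      exacts [one_mem _, ⟨ht, mem_centralizer_singleton_iff.2 hst.symm⟩, ⟨hz, mem_centralizer_singleton_iff.2 hsz.symm⟩]
    · exact Subtype.ext (congrArg (fun v : F => (v : G)) hvw)
  rw [h2F, Finset.card_insert_of_notMem, Finset.card_pair (Ne.symm hc.2)] at this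
  · omega
  · simp [Ne.symm ht1, Ne.symm hc.1]

end CfsgLib.EqualConj
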