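import Cfsg.Agent.S4020
import Cfsg.Agent.S4025
import Cfsg.Agent.Lib.Basic
import Cfsg.Agent.Lib.EqualConj.Facts

/-!
# Subgroups of equal order conjugate: local facts
-/

set_option autoImplicit false
set_option linter.unusedSectionVars false
set_option linter.style.haveILetI false

namespace CfsgLib.EqualConj

open Cfsg Subgroup

universe u

variable {G : Type u} [Group G] [Finite G]

/-- Subgroups of equal order are conjugate. -/
abbrev EOC (G : Type u) [Group G] : Prop :=
  ∀ H K : Subgroup G, Nat.card H = Nat.card K → ∃ g : G, K = H.map (MulAut.conj g).toMonoidHom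

theorem EOC.pconj (hE : EOC G) (p : ℕ) (_ : p.Prime) (H K : Subgroup G) (_ : IsPGroup p H) (_ : IsPGroup p K)
    (h : Nat.card H = Nat.card K) : ∃ g : G, K = H.map (MulAut.conj g).toMonoidHom := hE H K h

/-- The property passes to quotients. -/
theorem EOC.quotient (hE : EOC G) (N : Subgroup G) [N.Normal] : EOC (G ⧸ N) := by
  intro H K h
  set π := QuotientGroup.mk' N
  have hs : Function.Surjective π := QuotientGroup.mk'_surjective N
  have hc : ∀ L : Subgroup (G ⧸ N), Nat.card (L.comap π) = Nat.card L * Nat.card N := fun L => by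
    have h1 := Subgroup.index_mul_card (L.comap π)
    have h2 := Subgroup.index_mul_card L
    rw [Subgroup.index_comap_of_surjective L hs, Subgroup.card_eq_card_quotient_mul_card_subgroup N, ← h2,
      mul_assoc] at h1
    exact Nat.eq_of_mul_eq_mul_left (Nat.pos_of_ne_zero L.index_ne_zero_of_finite) h1
  obtain ⟨g, hg⟩ := hE (H.comap π) (K.comap π) (by rw [hc, hc, h])
  refine ⟨π g, ?_⟩
  conv_lhs => rw [← Subgroup.map_comap_eq_self_of_surjective hs K, hg]
  rw [Subgroup.map_map]
  conv_rhs => rw [← Subgroup.map_comap_eq_self_of_surjective hs H, Subgroup.map_map]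
  congr 1

/-- An element generating a subgroup of prime order lies in every normal subgroup meeting that order. -/
theorem EOC.mem_normal (hE : EOC G) {N : Subgroup G} [hN : N.Normal] {p : ℕ} [Fact p.Prime]
    (hp : p ∣ Nat.card N) {x : G} (hx : orderOf x = p) : x ∈ N := by
  obtain ⟨y, hy⟩ := exists_prime_orderOf_dvd_card' p hp
  obtain ⟨g, hg⟩ := hE (zpowers (y : G)) (zpowers x) (by
    rw [Nat.card_zpowers, Nat.card_zpowers, Subgroup.orderOf_coe, hy, hx])
  have hxm : x ∈ (zpowers (y : G)).map (MulAut.conj g).toMonoidHom := hg ▸ mem_zpowers x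
  obtain ⟨z, hz, rfl⟩ := hxm
  exact hN.conj_mem z (zpowers_le.2 y.2 hz) g

/-- No involution inverts an element of order `p` when `p` divides an involution centraliser. -/
theorem no_inverts (hE : EOC G) {t u x : G} {p : ℕ} [hp : Fact p.Prime] (hp2 : p ≠ 2) (ht : orderOf t = 2)
    (hu : orderOf u = 2) (hdvd : p ∣ Nat.card (centralizer ({t} : Set G))) (hx : orderOf x = p) :
    u * x * u⁻¹ ≠ x⁻¹ := by
  intro hinv
  obtain ⟨y, hy⟩ := exists_prime_orderOf_dvd_card' p hdvd
  have hcop : Nat.Coprime 2 p := (Nat.prime_two.coprime_iff_not_dvd).2 fun h =>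
    hp2 ((Nat.prime_dvd_prime_iff_eq Nat.prime_two hp.out).1 h).symm
  set c := t * (y : G)
  have hc : orderOf c = 2 * p := by
    have hcom : Commute t (y : G) := (mem_centralizer_singleton_iff.1 y.2).symm
    rw [hcom.orderOf_mul_eq_mul_orderOf_of_coprime (by rw [ht, Subgroup.orderOf_coe, hy]; exact hcop), ht,
      Subgroup.orderOf_coe, hy]
  -- the dihedral subgroup
  set Nx := normalizer ((zpowers x : Subgroup G) : Set G)
  have huN : u ∈ Nx := by
    rw [mem_normalizer_iff]
    intro z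
    have h1 : ∀ w, w ∈ zpowers x → u * w * u⁻¹ ∈ zpowers x := by
      rintro _ ⟨k, rfl⟩
      show u * x ^ k * u⁻¹ ∈ _
      rw [← conj_zpow, hinv]
      exact zpow_mem (inv_mem (mem_zpowers x)) k
    refine ⟨h1 z, fun hz => ?_⟩
    have h2 := h1 _ hz
    have huu : u * u = 1 := by rw [← pow_two, ← hu, pow_orderOf_eq_one]
    rw [inv_eq_of_mul_eq_one_right huu, ← mul_assoc, ← mul_assoc, huu, one_mul, mul_assoc, huu, mul_one] at h2
    exact h2
  set X : Subgroup Nx := (zpowers x).subgroupOf Nx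
  haveI : X.Normal := normal_in_normalizer
  set U : Subgroup Nx := zpowers (⟨u, huN⟩ : Nx)
  have hXc : Nat.card X = p := by
    rw [Nat.card_congr (subgroupOfEquivOfLe le_normalizer).toEquiv, Nat.card_zpowers, hx]
  have hUc : Nat.card U = 2 := by rw [Nat.card_zpowers, Subgroup.orderOf_mk, hu]
  have hD : Nat.card ↥(U ⊔ X) = p * 2 := by
    have h1 := Subgroup.relIndex_mul_relIndex ⊥ X (U ⊔ X) bot_le le_sup_right
    rw [Subgroup.relIndex_bot_left, Subgroup.relIndex_bot_left, Subgroup.relIndex_sup_right,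
      ← Subgroup.inf_relIndex_right, Subgroup.inf_eq_bot_of_coprime (by rw [hXc, hUc]; exact hcop.symm),
      Subgroup.relIndex_bot_left, hXc, hUc] at h1
    exact h1.symm
  obtain ⟨g, hg⟩ := hE (zpowers c) ((U ⊔ X).map Nx.subtype) (by
    rw [Nat.card_zpowers, hc, Subgroup.card_map_of_injective Nx.subtype_injective, hD, mul_comm])
  have hmem : ∀ w : G, w ∈ (U ⊔ X).map Nx.subtype → ∃ k : ℤ, w = g * c ^ k * g⁻¹ := by
    intro w hw
    rw [hg] at hw
    obtain ⟨_, ⟨k, rfl⟩, hz⟩ := hw
    exact ⟨k, hz.symm⟩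
  obtain ⟨i, hi⟩ := hmem u ⟨⟨u, huN⟩, le_sup_left (a := U) (mem_zpowers _), rfl⟩
  obtain ⟨j, hj⟩ := hmem x ⟨⟨x, le_normalizer (mem_zpowers x)⟩, le_sup_right (b := X) (mem_zpowers x), rfl⟩
  have hcomm : u * x = x * u := by
    have h0 : g * c ^ i * g⁻¹ * (g * c ^ j * g⁻¹) = g * c ^ j * g⁻¹ * (g * c ^ i * g⁻¹) := by
      rw [← MulAut.conj_apply, ← MulAut.conj_apply, ← map_mul, ← map_mul, (Commute.zpow_zpow_self c i j).eq]
    rwa [← hi, ← hj] at h0
  rw [hcomm, mul_inv_cancel_right] at hinv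
  have h2 : x * x = 1 := by
    calc x * x = x * x⁻¹ := by rw [← hinv]
      _ = 1 := mul_inv_cancel x
  have h3 : p ∣ 2 := hx ▸ orderOf_dvd_of_pow_eq_one (by rw [pow_two, h2])
  exact hp2 ((Nat.prime_dvd_prime_iff_eq hp.out Nat.prime_two).1 h3)

/-- Setting: trivial odd core and an elementary abelian Sylow 2-subgroup of order at least four. -/
structure Setup (T : Sylow 2 G) : Prop where
  eoc : EOC G
  core : oddCore G = ⊥
  sq : ∀ x ∈ (T : Subgroup G), x * x = 1
  big : 4 ≤ Nat.card (T : Subgroup G)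

variable {T : Sylow 2 G}

theorem Setup.comm (h : Setup T) {x y : G} (hx : x ∈ (T : Subgroup G)) (hy : y ∈ (T : Subgroup G)) :
    x * y = y * x := by
  have hi : ∀ z ∈ (T : Subgroup G), z⁻¹ = z := fun z hz => inv_eq_of_mul_eq_one_right (h.sq z hz)
  calc x * y = (x * y)⁻¹ := (hi _ (mul_mem hx hy)).symm
    _ = y * x := by rw [mul_inv_rev, hi y hy, hi x hx]

theorem Setup.exists_invol (h : Setup T) : ∃ t ∈ (T : Subgroup G), orderOf t = 2 := by
  haveI : Fact (Nat.Prime 2) := ⟨Nat.prime_two⟩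
  obtain ⟨k, hk⟩ := IsPGroup.iff_card.mp T.2
  obtain ⟨x, hx⟩ := exists_prime_orderOf_dvd_card' (G := (T : Subgroup G)) 2 (by
    rw [hk]
    refine dvd_pow_self 2 fun h0 => ?_
    have := h.big
    rw [hk, h0, pow_zero] at this
    omega)
  exact ⟨x, x.2, by rw [Subgroup.orderOf_coe, hx]⟩

/-- Every 2-element commuting with the Sylow subgroup elements conjugates into it. -/
theorem Setup.sq_of_two (h : Setup T) {S : Subgroup G} (hS : IsPGroup 2 S) {x : G} (hx : x ∈ S) : x * x = 1 := by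
  haveI : Fact (Nat.Prime 2) := ⟨Nat.prime_two⟩
  obtain ⟨Q, hQ⟩ := hS.exists_le_sylow
  obtain ⟨g, hg⟩ := MulAction.exists_smul_eq G Q T
  have h1 : g * x * g⁻¹ ∈ (T : Subgroup G) := by
    rw [← hg, Sylow.coe_subgroup_smul]
    exact ⟨x, hQ hx, rfl⟩
  have h2 := h.sq _ h1
  calc x * x = g⁻¹ * (g * x * g⁻¹ * (g * x * g⁻¹)) * g := by group
    _ = 1 := by rw [h2, mul_one, inv_mul_cancel]

/-- Involutions commuting with a given involution commute with each other. -/
theorem Setup.invol_comm (h : Setup T) {t u v : G} (ht : orderOf t = 2) (hu : orderOf u = 2) (hv : orderOf v = 2)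
    (hut : u * t = t * u) (hvt : v * t = t * v) : u * v = v * u := by
  haveI : Fact (Nat.Prime 2) := ⟨Nat.prime_two⟩
  have huu : u * u = 1 := by rw [← pow_two, ← hu, pow_orderOf_eq_one]
  have hvv : v * v = 1 := by rw [← pow_two, ← hv, pow_orderOf_eq_one]
  have hui : u⁻¹ = u := inv_eq_of_mul_eq_one_right huu
  have hvi : v⁻¹ = v := inv_eq_of_mul_eq_one_right hvv
  set w := u * v with hw
  have hwinv : u * w * u⁻¹ = w⁻¹ := by rw [hw, mul_inv_rev, hvi, hui, ← mul_assoc, huu, one_mul]
  have hwt : w ∈ centralizer ({t} : Set G) := by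
    rw [mem_centralizer_singleton_iff, hw, mul_assoc, hvt, ← mul_assoc, hut, mul_assoc]
  -- the order is a power of two
  have hpow : ∀ p : ℕ, p.Prime → p ∣ orderOf w → p = 2 := by
    intro p hp hpd
    by_contra hp2
    haveI := Fact.mk hp
    set x := w ^ (orderOf w / p) with hx
    have hxo : orderOf x = p := orderOf_pow_orderOf_div (orderOf_pos w).ne' hpd
    refine no_inverts h.eoc hp2 ht hu ?_ hxo ?_
    · refine hpd.trans ?_
      exact Subgroup.orderOf_dvd_natCard _ hwt
    · rw [hx, ← conj_pow, hwinv, inv_pow]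
  have h2 : IsPGroup 2 (zpowers w) :=
    IsPGroup.of_card (n := (orderOf w).primeFactorsList.length) (by
      rw [Nat.card_zpowers]
      exact Nat.eq_prime_pow_of_unique_prime_dvd (orderOf_pos w).ne' (fun {d} hd hdw => hpow d hd hdw))
  have h3 := h.sq_of_two h2 (mem_zpowers w)
  calc u * v = (u * v)⁻¹ := (inv_eq_of_mul_eq_one_right h3).symm
    _ = v * u := by rw [mul_inv_rev, hui, hvi]

/-- An involution commuting with an involution of the Sylow subgroup lies in it. -/
theorem Setup.invol_mem (h : Setup T) {t u : G} (ht : t ∈ (T : Subgroup G)) (hto : orderOf t = 2)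
    (huo : orderOf u = 2) (hut : u * t = t * u) : u ∈ (T : Subgroup G) := by
  haveI : Fact (Nat.Prime 2) := ⟨Nat.prime_two⟩
  have hcomm : ∀ v ∈ (T : Subgroup G), u * v = v * u := by
    intro v hv
    by_cases hv1 : v = 1
    · simp [hv1]
    exact h.invol_comm hto huo (orderOf_eq_prime (by rw [pow_two]; exact h.sq v hv) hv1) hut (h.comm hv ht)
  have huu : u * u = 1 := by rw [← pow_two, ← huo, pow_orderOf_eq_one]
  have hle : zpowers u ≤ normalizer ((T : Subgroup G) : Set G) := zpowers_le.2 (by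
    rw [mem_normalizer_iff]
    intro z
    refine ⟨fun hz => by rw [hcomm z hz, mul_inv_cancel_right]; exact hz, fun hz => ?_⟩
    have h1 := hcomm _ hz
    have h2 : u * (u * z * u⁻¹) * u⁻¹ = u * z * u⁻¹ := by rw [h1, mul_inv_cancel_right]
    have h3 : u * z * u⁻¹ = z := by
      have h4 : u * (u * z * u⁻¹) * u⁻¹ = z := by
        rw [inv_eq_of_mul_eq_one_right huu, ← mul_assoc, ← mul_assoc, huu, one_mul, mul_assoc, huu, mul_one]
      rw [← h2, h4]
    rwa [h3] at hz)
  have hp : IsPGroup 2 ↥((T : Subgroup G) ⊔ zpowers u) := by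
    rw [sup_comm]
    exact IsPGroup.to_sup_of_normal_right' (IsPGroup.of_card (n := 1) (by rw [Nat.card_zpowers, huo, pow_one]))
      T.2 hle
  exact (T.3 hp le_sup_left) ▸ (le_sup_right (a := (T : Subgroup G)) (mem_zpowers u) : u ∈ (T : Subgroup G) ⊔ zpowers u)

/-- Centralisers of involutions of the Sylow subgroup normalise it. -/
theorem Setup.cent_le_normalizer (h : Setup T) {t g : G} (ht : t ∈ (T : Subgroup G)) (hto : orderOf t = 2)
    (hg : g * t = t * g) : g ∈ normalizer ((T : Subgroup G) : Set G) := by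
  have key : ∀ c : G, c * t = t * c → ∀ z ∈ (T : Subgroup G), c * z * c⁻¹ ∈ (T : Subgroup G) := by
    intro c hc z hz
    by_cases hz1 : z = 1
    · simp [hz1]
    have hzo : orderOf z = 2 := orderOf_eq_prime (by rw [pow_two]; exact h.sq z hz) hz1
    refine h.invol_mem ht hto ?_ ?_
    · rw [← hzo, ← (MulAut.conj c).orderOf_eq z]; rfl
    · have h1 : c * t * c⁻¹ = t := by rw [hc, mul_inv_cancel_right]
      conv_lhs => rw [← h1]
      conv_rhs => rw [← h1]
      rw [← MulAut.conj_apply, ← MulAut.conj_apply, ← map_mul, ← map_mul, h.comm hz ht]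
  rw [mem_normalizer_iff]
  refine fun z => ⟨key g hg z, fun hz => ?_⟩
  have hg' : g⁻¹ * t = t * g⁻¹ := (show Commute g t from hg).inv_left.eq
  have := key g⁻¹ hg' _ hz
  simpa [mul_assoc] using this

/-- Elements of the Sylow subgroup are conjugate in the normaliser. -/
theorem Setup.transitive (h : Setup T) {x y : G} (hx : x ∈ (T : Subgroup G)) (hy : y ∈ (T : Subgroup G))
    (hx1 : x ≠ 1) (hy1 : y ≠ 1) : ∃ n ∈ normalizer ((T : Subgroup G) : Set G), n * x * n⁻¹ = y := by
  haveI : Fact (Nat.Prime 2) := ⟨Nat.prime_two⟩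
  have ho : ∀ z ∈ (T : Subgroup G), z ≠ 1 → orderOf z = 2 := fun z hz h1 =>
    orderOf_eq_prime (by rw [pow_two]; exact h.sq z hz) h1
  obtain ⟨g, hg⟩ := h.eoc (zpowers x) (zpowers y) (by
    rw [Nat.card_zpowers, Nat.card_zpowers, ho x hx hx1, ho y hy hy1])
  obtain ⟨n, hn, hxy⟩ := Cfsg.Agent.S4025.abelian_fusion T (fun a ha b hb => h.comm ha hb)
    (zpowers_le.2 hx) (zpowers_le.2 hy) hg
  refine ⟨n, hn, ?_⟩
  have h1 : y ∈ (zpowers x).map (MulAut.conj n).toMonoidHom := hxy ▸ mem_zpowers y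
  obtain ⟨_, ⟨k, rfl⟩, hz⟩ := h1
  rcases Int.even_or_odd k with ⟨j, rfl⟩ | ⟨j, rfl⟩
  · exfalso
    refine hy1 (hz.symm.trans ?_)
    show (MulAut.conj n) (x ^ (j + j)) = 1
    rw [← two_mul, zpow_mul, zpow_two, h.sq x hx, _root_.one_zpow, map_one]
  · rw [← hz]
    show n * x * n⁻¹ = n * x ^ (2 * j + 1) * n⁻¹
    rw [zpow_add, zpow_mul, zpow_two, h.sq x hx, _root_.one_zpow, one_mul, zpow_one]

/-- A normal subgroup of even order contains the Sylow subgroup. -/
theorem Setup.le_of_even (h : Setup T) {N : Subgroup G} [N.Normal] (hN : 2 ∣ Nat.card N) :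
    (T : Subgroup G) ≤ N := by
  haveI : Fact (Nat.Prime 2) := ⟨Nat.prime_two⟩
  intro x hx
  by_cases hx1 : x = 1
  · exact hx1 ▸ one_mem N
  exact h.eoc.mem_normal hN (orderOf_eq_prime (by rw [pow_two]; exact h.sq x hx) hx1)

end CfsgLib.EqualConj
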