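import Cfsg.Agent.Lib.EqualConj.Stab
import Cfsg.Agent.Lib.Elementary

/-!
# The minimal normal subgroup when the Sylow 2-subgroup is not normal
-/

set_option autoImplicit false
set_option linter.style.haveILetI false
set_option linter.unusedSectionVars false

namespace CfsgLib.EqualConj

open Cfsg Subgroup

universe u

variable {G : Type u} [Group G] [Finite G] {T : Sylow 2 G}

/-- Involutions are conjugate. -/
theorem EOC.invol_conj (hE : EOC G) {a b : G} (ha : orderOf a = 2) (hb : orderOf b = 2) :
    ∃ c : G, c * a * c⁻¹ = b := by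
  obtain ⟨c, hc⟩ := hE (zpowers a) (zpowers b) (by rw [Nat.card_zpowers, Nat.card_zpowers, ha, hb])
  obtain ⟨_, ⟨k, rfl⟩, hk⟩ : b ∈ (zpowers a).map (MulAut.conj c).toMonoidHom := hc ▸ mem_zpowers b
  refine ⟨c, ?_⟩
  have haa : a * a = 1 := by rw [← pow_two, ← ha, pow_orderOf_eq_one]
  rcases Int.even_or_odd k with ⟨j, rfl⟩ | ⟨j, rfl⟩
  · exfalso
    have : b = 1 := by
      rw [← hk]
      show (MulAut.conj c) (a ^ (j + j)) = 1
      rw [← two_mul, zpow_mul, zpow_two, haa, _root_.one_zpow, map_one]
    rw [this, orderOf_one] at hb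
    norm_num at hb
  · rw [← hk]
    show c * a * c⁻¹ = c * a ^ (2 * j + 1) * c⁻¹
    rw [zpow_add, zpow_mul, zpow_two, haa, _root_.one_zpow, one_mul, zpow_one]

/-- A normal subgroup of even order contains an elementary abelian Sylow subgroup if involutions are conjugate. -/
theorem le_of_invol_conj (hconj : ∀ a b : G, orderOf a = 2 → orderOf b = 2 → ∃ c : G, c * a * c⁻¹ = b)
    (hsq : ∀ x ∈ (T : Subgroup G), x * x = 1) {W : Subgroup G} [hW : W.Normal] (h2 : 2 ∣ Nat.card W) :
    (T : Subgroup G) ≤ W := fun x hx => by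
  haveI : Fact (Nat.Prime 2) := ⟨Nat.prime_two⟩
  by_cases hx1 : x = 1
  · rw [hx1]; exact one_mem W
  obtain ⟨⟨w, hw⟩, hwo⟩ := exists_prime_orderOf_dvd_card' (G := W) 2 h2
  rw [Subgroup.orderOf_mk] at hwo
  obtain ⟨c, rfl⟩ := hconj w x hwo (orderOf_eq_prime (by rw [pow_two]; exact hsq x hx) hx1)
  exact hW.conj_mem w hw c

/-- There is no nontrivial normal 2-subgroup. -/
theorem two_bot_of_invol_conj (hconj : ∀ a b : G, orderOf a = 2 → orderOf b = 2 → ∃ c : G, c * a * c⁻¹ = b)
    (hsq : ∀ x ∈ (T : Subgroup G), x * x = 1) (hnn : ¬ (T : Subgroup G).Normal) {W : Subgroup G} [W.Normal]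
    (hW : IsPGroup 2 W) : W = ⊥ := by
  haveI : Fact (Nat.Prime 2) := ⟨Nat.prime_two⟩
  by_contra hne
  obtain ⟨k, hk⟩ := IsPGroup.iff_card.mp hW
  have hle : (T : Subgroup G) ≤ W := le_of_invol_conj hconj hsq (by
    rw [hk]
    exact dvd_pow_self 2 fun h0 => hne (Subgroup.eq_bot_of_card_eq W (by rw [hk, h0, pow_zero])))
  exact hnn ((T.3 hW hle) ▸ ‹W.Normal›)

/-- A simple normal subgroup with trivial centraliser containing the Sylow subgroup. -/
theorem exists_simple_of_invol_conj (hcore : oddCore G = ⊥)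
    (hconj : ∀ a b : G, orderOf a = 2 → orderOf b = 2 → ∃ c : G, c * a * c⁻¹ = b)
    (hsq : ∀ x ∈ (T : Subgroup G), x * x = 1) (hbig : 4 ≤ Nat.card (T : Subgroup G))
    (hnn : ¬ (T : Subgroup G).Normal) :
    ∃ M : Subgroup G, M.Normal ∧ ∃ hTM : (T : Subgroup G) ≤ M, IsSimpleGroup ↥M ∧
      centralizer (M : Set G) = ⊥ ∧ ¬ ((T.subtype hTM : Sylow 2 M) : Subgroup M).Normal := by
  haveI : Fact (Nat.Prime 2) := ⟨Nat.prime_two⟩
  haveI : Nontrivial G := Finite.one_lt_card_iff_nontrivial.1 (by
    have := Subgroup.card_le_card_group (T : Subgroup G)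
    omega)
  obtain ⟨M, hMn, -, hM0, hmin⟩ := CfsgLib.exists_minimal_normal (N := (⊤ : Subgroup G)) top_ne_bot
  haveI := hMn
  have heven : ∀ (N : Subgroup G) [N.Normal], N ≠ ⊥ → 2 ∣ Nat.card N := fun N _ hN => by
    by_contra h2
    refine hN (le_bot_iff.1 (hcore ▸ CfsgLib.le_oddCore ?_))
    rw [Nat.odd_iff, ← Nat.two_dvd_ne_zero]
    exact h2
  have hTM : (T : Subgroup G) ≤ M := le_of_invol_conj hconj hsq (heven M hM0)
  have hTnn : ¬ ((T.subtype hTM : Sylow 2 M) : Subgroup M).Normal := by
    intro hn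
    refine hnn ⟨fun z hz g => ?_⟩
    haveI := hn
    haveI := Sylow.unique_of_normal (T.subtype hTM) inferInstance
    have hp : IsPGroup 2 ((T : Subgroup G).map (MulAut.conj g).toMonoidHom) := T.2.map _
    obtain ⟨S, hS⟩ := (hp.comap_of_injective M.subtype M.subtype_injective).exists_le_sylow
    rw [Subsingleton.elim S (T.subtype hTM)] at hS
    have hmem : g * z * g⁻¹ ∈ M := hMn.conj_mem z (hTM hz) g
    exact hS (show (⟨_, hmem⟩ : M) ∈ ((T : Subgroup G).map (MulAut.conj g).toMonoidHom).comap M.subtype from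
      ⟨z, hz, rfl⟩)
  refine ⟨M, hMn, hTM, ?_, ?_, hTnn⟩
  · -- simplicity
    haveI : Nontrivial M := (Subgroup.nontrivial_iff_ne_bot M).2 hM0
    have key : ∀ K : Subgroup M, K.Normal → K ≠ ⊥ →
        (∀ L : Subgroup M, L.Normal → L ≤ K → L = ⊥ ∨ L = K) → K = ⊤ := by
      intro K hK hK0 hKmin
      haveI := hK
      by_cases hKn : (K.map M.subtype).Normal
      · rcases hmin _ hKn (map_subtype_le K) with e | e
        · exact absurd ((Subgroup.map_eq_bot_iff_of_injective K M.subtype_injective).1 e) hK0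
        · refine Subgroup.map_injective M.subtype_injective ?_
          rw [← MonoidHom.range_eq_map, M.range_subtype]
          exact e
      exfalso
      -- an involution in `K`
      have hKeven : 2 ∣ Nat.card K := by
        by_contra h2
        have h1 : K ≤ oddCore ↥M := CfsgLib.le_oddCore (by rw [Nat.odd_iff, ← Nat.two_dvd_ne_zero]; exact h2)
        have h3 := (Subgroup.map_mono (f := M.subtype) h1).trans (CfsgLib.map_pPrimeCore_le 2 M)
        rw [show pPrimeCore 2 G = ⊥ from hcore, le_bot_iff] at h3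
        exact hK0 ((Subgroup.map_eq_bot_iff_of_injective K M.subtype_injective).1 h3)
      obtain ⟨⟨t, htK⟩, hto⟩ := exists_prime_orderOf_dvd_card' (G := K) 2 hKeven
      rw [Subgroup.orderOf_mk] at hto
      have himg : ∀ φ : MulAut M, (K.map φ.toMonoidHom).Normal ∧
          (∀ L : Subgroup M, L.Normal → L ≤ K.map φ.toMonoidHom → L = ⊥ ∨ L = K.map φ.toMonoidHom) := by
        intro φ
        refine ⟨hK.map φ.toMonoidHom φ.surjective, fun L hL hle => ?_⟩
        rcases hKmin (L.comap φ.toMonoidHom) (hL.comap _) (by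
          intro x hx
          obtain ⟨y, hy, hxy⟩ := hle hx
          rwa [← φ.injective hxy]) with e | e
        · left
          rw [← Subgroup.map_comap_eq_self_of_surjective (f := φ.toMonoidHom) φ.surjective L]
          rw [show L.comap φ.toMonoidHom = ⊥ from e, Subgroup.map_bot]
        · right
          rw [← Subgroup.map_comap_eq_self_of_surjective (f := φ.toMonoidHom) φ.surjective L]
          rw [show L.comap φ.toMonoidHom = K from e]
      have hdisj : ∀ A B : Subgroup M, A.Normal → B.Normal →
          (∀ L : Subgroup M, L.Normal → L ≤ A → L = ⊥ ∨ L = A) →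
          (∀ L : Subgroup M, L.Normal → L ≤ B → L = ⊥ ∨ L = B) → A ≠ B → Disjoint A B := by
        intro A B hA hB hAm hBm hne
        haveI := hA
        haveI := hB
        rcases hAm (A ⊓ B) inferInstance inf_le_left with e | e
        · exact disjoint_iff.2 e
        rcases hBm (A ⊓ B) inferInstance inf_le_right with e' | e'
        · exact disjoint_iff.2 e'
        exact absurd (e.symm.trans e') hne
      obtain ⟨g, hg⟩ : ∃ g : G, K.map (MulAut.conjNormal (H := M) g).toMonoidHom ≠ K := by
        by_contra hc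
        push Not at hc
        refine hKn ⟨fun z hz g => ?_⟩
        obtain ⟨k, hk, rfl⟩ := hz
        refine ⟨MulAut.conjNormal g k, ?_, by simp⟩
        rw [← hc g]
        exact ⟨k, hk, rfl⟩
      set K' := K.map (MulAut.conjNormal (H := M) g).toMonoidHom with hK'
      set t' := MulAut.conjNormal (H := M) g t
      have ht'K : t' ∈ K' := ⟨t, htK, rfl⟩
      obtain ⟨hK'n, hK'min⟩ := himg (MulAut.conjNormal g)
      have hd : Disjoint K K' := hdisj K K' hK hK'n hKmin hK'min (Ne.symm hg)
      have hcomm := Subgroup.commute_of_normal_of_disjoint K K' hK hK'n hd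
      have htt : t * t = 1 := by rw [← pow_two, ← hto, pow_orderOf_eq_one]
      have ht't : t' * t' = 1 := by rw [← map_mul, htt, map_one]
      have ht1 : t ≠ 1 := fun e => by rw [e, orderOf_one] at hto; norm_num at hto
      have hp2 : orderOf (t * t') = 2 := by
        refine orderOf_eq_prime ?_ fun e => ht1 ?_
        · rw [(hcomm t t' htK ht'K).mul_pow, pow_two, pow_two, htt, ht't, one_mul]
        · have : t = t'⁻¹ := eq_inv_of_mul_eq_one_left e
          exact Subgroup.disjoint_def.1 hd htK (this ▸ inv_mem ht'K)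
      obtain ⟨c, hc⟩ := hconj (t : G) ((t * t' : M) : G)
        (by rw [Subgroup.orderOf_coe, hto]) (by rw [Subgroup.orderOf_coe, hp2])
      set K'' := K.map (MulAut.conjNormal (H := M) c).toMonoidHom
      have htt'' : t * t' ∈ K'' := ⟨t, htK, Subtype.ext (by simpa using hc)⟩
      obtain ⟨hK''n, hK''min⟩ := himg (MulAut.conjNormal c)
      have hne1 : K'' ≠ K := fun e => by
        rw [e] at htt''
        have ht'mem : t' ∈ K := by simpa [← mul_assoc, htt] using mul_mem htK htt''
        have h0 : t' = 1 := Subgroup.disjoint_def.1 hd ht'mem ht'K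
        exact ht1 ((MulAut.conjNormal (H := M) g).injective (h0.trans (map_one _).symm))
      have hne2 : K'' ≠ K' := fun e => by
        rw [e] at htt''
        have htmem : t ∈ K' := by simpa [mul_assoc, ht't] using mul_mem htt'' ht'K
        exact ht1 (Subgroup.disjoint_def.1 hd htK htmem)
      have hcomm2 := Subgroup.commute_of_normal_of_disjoint K'' K hK''n hK
        (hdisj K'' K hK''n hK hK''min hKmin hne1)
      have hcent : ∀ k ∈ K, t * k = k * t := fun k hk => by
        have h1 : t * t' * k = k * (t * t') := hcomm2 _ k htt'' hk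
        have h2 : k * t' = t' * k := hcomm k t' hk ht'K
        refine mul_right_cancel (b := t') ?_
        calc t * k * t' = t * (k * t') := mul_assoc _ _ _
          _ = t * t' * k := by rw [h2, mul_assoc]
          _ = k * t * t' := by rw [h1, mul_assoc]
      -- then `K` is commutative
      haveI : (centralizer (K : Set M)).Normal := inferInstance
      have hKab : ∀ a ∈ K, ∀ b ∈ K, a * b = b * a := by
        intro a ha b hb
        rcases hKmin (K ⊓ centralizer (K : Set M)) inferInstance inf_le_left with e | e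
        · exfalso
          have : t ∈ K ⊓ centralizer (K : Set M) := ⟨htK, mem_centralizer_iff.2 fun k hk => (hcent k hk).symm⟩
          rw [e, mem_bot] at this
          exact ht1 this
        · rw [← e] at ha
          exact (mem_centralizer_iff.1 ha.2 b hb).symm
      let W : Subgroup M :=
        { carrier := {x | x ∈ K ∧ x * x = 1}
          one_mem' := ⟨one_mem K, one_mul 1⟩
          mul_mem' := fun {a b} ha hb => ⟨mul_mem ha.1 hb.1, by
            rw [mul_assoc a b, ← mul_assoc b a b, hKab b hb.1 a ha.1, mul_assoc a b b, hb.2, mul_one, ha.2]⟩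
          inv_mem' := fun {a} ha => ⟨inv_mem ha.1, by rw [← mul_inv_rev, ha.2, inv_one]⟩ }
      haveI : W.Normal := ⟨fun x hx g => ⟨hK.conj_mem x hx.1 g, by
        rw [show g * x * g⁻¹ * (g * x * g⁻¹) = g * (x * x) * g⁻¹ by group, hx.2, mul_one, mul_inv_cancel]⟩⟩
      have hW : IsPGroup 2 W := fun x => ⟨1, Subtype.ext (by
        simp only [pow_one, pow_two, Subgroup.coe_mul, OneMemClass.coe_one]; exact x.2.2)⟩
      have hWle := (Subgroup.map_mono (f := M.subtype) (CfsgLib.le_pCore hW)).trans (CfsgLib.map_pCore_le 2 M)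
      rw [two_bot_of_invol_conj hconj hsq hnn (CfsgLib.isPGroup_pCore (G := G) (p := 2)), le_bot_iff] at hWle
      have := (Subgroup.map_eq_bot_iff_of_injective W M.subtype_injective).1 hWle
      exact ht1 ((eq_bot_iff_forall W).1 this t ⟨htK, htt⟩)
    refine ⟨fun N hN => ?_⟩
    haveI := hN
    by_cases hN0 : N = ⊥
    · exact Or.inl hN0
    obtain ⟨K, hK, hKN, hK0, hKmin⟩ := CfsgLib.exists_minimal_normal (G := M) hN0
    exact Or.inr (top_unique (key K hK hK0 hKmin ▸ hKN))
  · by_contra hne
    haveI : (centralizer (M : Set G)).Normal := inferInstance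
    have hle : (T : Subgroup G) ≤ centralizer (M : Set G) := le_of_invol_conj hconj hsq (heven _ hne)
    refine hTnn ⟨fun z hz m => ?_⟩
    have h1 := mem_centralizer_iff.1 (hle (show (z : G) ∈ (T : Subgroup G) from hz)) (m : G) m.2
    have : m * z * m⁻¹ = z := Subtype.ext (by
      simp only [Subgroup.coe_mul, Subgroup.coe_inv]
      rw [h1, mul_inv_cancel_right])
    rw [this]
    exact hz

/-- A simple normal subgroup with trivial centraliser containing the Sylow subgroup. -/
theorem Setup.exists_simple (h : Setup T) (hnn : ¬ (T : Subgroup G).Normal) :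
    ∃ M : Subgroup G, M.Normal ∧ ∃ hTM : (T : Subgroup G) ≤ M, IsSimpleGroup ↥M ∧
      centralizer (M : Set G) = ⊥ ∧ ¬ ((T.subtype hTM : Sylow 2 M) : Subgroup M).Normal :=
  exists_simple_of_invol_conj h.core (fun _ _ ha hb => h.eoc.invol_conj ha hb) h.sq h.big hnn

end CfsgLib.EqualConj
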