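import Cfsg.Agent.Lib.EqualConj.Stab

/-!
# The case of a normal Sylow 2-subgroup
-/

set_option autoImplicit false
set_option linter.style.haveILetI false

namespace CfsgLib.EqualConj

open Cfsg Subgroup

universe u

variable {G : Type u} [Group G] [Finite G] {T : Sylow 2 G}

/-- The groups with a normal Sylow 2-subgroup. -/
theorem Setup.normal_case (h : Setup T) (hn : (T : Subgroup G).Normal) :
    (Nat.card (T : Subgroup G) = 4 ∧ Nonempty (G ≃* alternatingGroup (Fin 4))) ∨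
    Nat.card (T : Subgroup G) ≠ 4 ∧ (Nonempty (G ≃* Cfsg.affineGroup (GaloisField 2 3)) ∨
    Nonempty (G ≃* Cfsg.semiaffineGroup (GaloisField 2 3)) ∨
    Nonempty (G ≃* Cfsg.semiaffineGroup (GaloisField 2 5))) := by
  haveI := hn
  have hN : Nn T = ⊤ := normalizer_eq_top_iff.2 hn
  set e₀ : ↥(Nn T) ≃* G := (MulEquiv.subgroupCongr hN).trans Subgroup.topEquiv
  have hK : pPrimeCore 2 ↥(Nn T) = ⊥ := by
    have h1 := CfsgLib.pPrimeCore_map_equiv 2 e₀
    rw [show pPrimeCore 2 G = ⊥ from h.core] at h1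
    exact (Subgroup.map_eq_bot_iff_of_injective _ e₀.injective).1 h1
  have hiso : ↥(Nn T) ⧸ pPrimeCore 2 ↥(Nn T) ≃* G :=
    ((QuotientGroup.quotientMulEquivOfEq hK).trans QuotientGroup.quotientBot).trans e₀
  obtain ⟨t, ht, hto⟩ := h.exists_invol
  have ht1 : t ≠ 1 := fun e => by rw [e, orderOf_one] at hto; norm_num at hto
  rcases h.cases ht ht1 with ⟨hq, he⟩ | ⟨hq, ⟨-, ⟨f⟩⟩ | ⟨-, ⟨f⟩⟩⟩ | ⟨hq, -, ⟨f⟩⟩
  · left
    refine ⟨hq, ?_⟩
    have hidx := h.core_index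
    have hrel := h.relIndex_C ht ht1
    rw [he, hq] at hrel
    rw [hK, Subgroup.index_bot, hrel, hq, Nat.card_congr e₀.toEquiv] at hidx
    refine alt_four hidx (T : Subgroup G) hq ?_
    have h2 := Subgroup.relIndex_mul_relIndex ⊥ (Cc T) (Nn T) bot_le C_le_N
    rw [Subgroup.relIndex_bot_left, Subgroup.relIndex_bot_left, Nat.card_congr e₀.toEquiv, hidx, hrel] at h2
    exact (Subgroup.eq_of_le_of_card_ge h.T_le_C (by rw [hq]; omega)).ge
  · exact Or.inr ⟨by omega, Or.inl ⟨hiso.symm.trans f⟩⟩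
  · exact Or.inr ⟨by omega, Or.inr (Or.inl ⟨hiso.symm.trans f⟩)⟩
  · exact Or.inr ⟨by omega, Or.inr (Or.inr ⟨hiso.symm.trans f⟩)⟩

end CfsgLib.EqualConj
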