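import Cfsg.Agent.Lib.Blocks.Principal
import Cfsg.Agent.Lib.Blocks.Vanishing
import Cfsg.Agent.Lib.Blocks.KleinFour
import Cfsg.Agent.Lib.CharTheory.FrobeniusSchur
import Cfsg.Agent.Lib.SmallSylow.PredTwo.Bounds
import Cfsg.Agent.Lib.EqualConj.Facts

/-!
# The principal block on the sections of the involutions
-/

set_option autoImplicit false
set_option linter.unusedVariables false
set_option linter.unusedSimpArgs false
set_option linter.style.haveILetI false
set_option linter.unusedSectionVars false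

namespace CfsgLib.EqualConj

open Cfsg CfsgLib.CharTheory CfsgLib.Blocks
open scoped ComplexConjugate

universe u

variable {M : Ideal AlgInt} {G : Type u} [Group G] [Fintype G]

/-- A character vanishing on average over a subgroup does so on each translate. -/
theorem sum_subgroup_char {χ : G → ℂ} (hχ : IsCharacter G χ) (U : Subgroup G) [Fintype U] :
    (∃ m : ℕ, ∑ u : U, χ u = (Nat.card U : ℂ) * m) ∧
      (∑ u : U, χ u = 0 → ∀ o : G, ∑ u : U, χ ((u : G) * o) = 0) := by
  classical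
  obtain ⟨n, ρ, rfl⟩ := hχ
  set N : ℂ := (Nat.card U : ℂ) with hN
  have hN0 : N ≠ 0 := Nat.cast_ne_zero.mpr Nat.card_pos.ne'
  set S : (Fin n → ℂ) →ₗ[ℂ] (Fin n → ℂ) := ∑ u : U, ρ u with hS
  have hSS : S * S = N • S := by
    rw [hS, Finset.sum_mul]
    have e : ∀ u : U, ρ u * ∑ v : U, ρ v = ∑ v : U, ρ v := fun u => by
      rw [Finset.mul_sum]
      exact Fintype.sum_equiv (Equiv.mulLeft u) _ _ fun v => by
        rw [← map_mul, Equiv.coe_mulLeft, Subgroup.coe_mul]
    simp only [e]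
    rw [Finset.sum_const, Finset.card_univ, hN, Nat.card_eq_fintype_card, ← Nat.cast_smul_eq_nsmul ℂ]
  set P : (Fin n → ℂ) →ₗ[ℂ] (Fin n → ℂ) := N⁻¹ • S with hP
  have hPP : P * P = P := by
    rw [hP, smul_mul_smul_comm, hSS, smul_smul, mul_assoc, inv_mul_cancel₀ hN0, mul_one]
  have hproj := (LinearMap.isProj_range_iff_isIdempotentElem P).2 hPP
  have htr : LinearMap.trace ℂ _ P = N⁻¹ * ∑ u : U, ρ.character u := by
    rw [hP, map_smul, hS, map_sum, smul_eq_mul]
    rfl
  rw [hproj.trace] at htr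
  refine ⟨⟨Module.finrank ℂ (LinearMap.range P), ?_⟩, fun h0 o => ?_⟩
  · rw [htr, ← mul_assoc, mul_inv_cancel₀ hN0, one_mul]
  · rw [h0, mul_zero, Nat.cast_eq_zero, Submodule.finrank_eq_zero, LinearMap.range_eq_bot] at htr
    have hS0 : S = 0 := by
      have := congrArg (fun f => N • f) htr
      simp only [hP, smul_smul, mul_inv_cancel₀ hN0, one_smul, smul_zero] at this
      exact this
    have h1 : ∀ u : U, ρ.character ((u : G) * o) = LinearMap.trace ℂ _ (ρ (u : G) * ρ o) := fun u => by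
      rw [← map_mul]; rfl
    rw [Finset.sum_congr rfl fun u _ => h1 u, ← map_sum, ← Finset.sum_mul, ← hS, hS0, zero_mul, map_zero]

variable {T : Sylow 2 G} {q : ℕ} {J : G} {N : Subgroup (Cc T)}

theorem isCentr_C (h : Hyp T q) {x : G} (hx : x ∈ (T : Subgroup G)) (h1 : x ≠ 1) : IsCentr x (Cc T) :=
  fun _ => mem_cent_iff h hx h1

theorem pow_two_q (h : Hyp T q) : ∃ k : ℕ, q = 2 ^ k := by
  haveI : Fact (Nat.Prime 2) := ⟨Nat.prime_two⟩
  obtain ⟨k, hk⟩ := IsPGroup.iff_card.mp T.2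
  exact ⟨k, h.card.symm.trans hk⟩

theorem odd_elt (hNodd : ¬ 2 ∣ Nat.card N) (y : N) : ¬ 2 ∣ orderOf (y : Cc T) := fun hd =>
  hNodd (hd.trans (Subgroup.orderOf_dvd_natCard N y.2))

/-- Outside the principal block the characters have average zero on the section. -/
theorem sum_outside (h : Hyp T q) (hM : IsPModular 2 M) (hJ : J ∈ (T : Subgroup G)) (hJ1 : J ≠ 1)
    [N.Normal] [Fintype N] (hNodd : ¬ 2 ∣ Nat.card N) (hNidx : N.index = q) {χ : IrrCharacter G}
    (hχ : χ ∉ principalBlock M G) : ∑ y : N, (χ : G → ℂ) (J * ((y : Cc T) : G)) = 0 := by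
  classical
  haveI := Fintype.ofFinite (Cc T)
  have hc := isCentr_C h hJ hJ1
  have hx : ∃ k : ℕ, orderOf J = 2 ^ k := ⟨1, by rw [ord_two h hJ hJ1, pow_one]⟩
  have hq0 : (q : ℂ) ≠ 0 := Nat.cast_ne_zero.2 (by have := h.big; omega)
  have hB0 := principalBlock_of_complement (G := Cc T) hM hNodd (by rw [hNidx]; exact pow_two_q h)
  have hov := overBlocks_principal hM hc hx
  have h1 := sec_eq_overBlocks hM hc hx principalBlock_isPBlock χ (y := (1 : Cc T)) (by simp)
  rw [ind_of_notMem hχ, zero_mul, hov, hB0, blockPart_apply] at h1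
  set A := {φ : IrrCharacter (Cc T) | ∀ n ∈ N, (φ : Cc T → ℂ) n = (φ : Cc T → ℂ) 1}
  have he : ∀ c : Cc T, ∑ φ ∈ bset A, (φ : Cc T → ℂ) 1 * conj ((φ : Cc T → ℂ) c) =
      if c ∈ N then (q : ℂ) else 0 := by
    intro c
    have he : cf (ind A) = avgFn N := by
      rw [← cf_omega (avgFn_isClassFunction N)]
      congr 1
      funext φ
      by_cases h : φ ∈ A
      · rw [ind_of_mem h, (omega_avgFn N φ).2.2 h]
      · rw [ind_of_notMem h]
        exact ((omega_avgFn N φ).1.resolve_right fun h1 => h ((omega_avgFn N φ).2.1 h1)).symm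
    have h2 := congrFun he c
    rw [cf_ind, blockCoeff, finsum_mem_bset] at h2
    simp only [avgFn] at h2
    have hG : (Nat.card (Cc T) : ℂ) ≠ 0 := Nat.cast_ne_zero.2 Nat.card_pos.ne'
    have hN' : (Nat.card N : ℂ) ≠ 0 := Nat.cast_ne_zero.2 Nat.card_pos.ne'
    rw [inv_mul_eq_iff_eq_mul₀ hG] at h2
    rw [h2]
    split_ifs
    · rw [← N.index_mul_card, hNidx, Nat.cast_mul, mul_inv_cancel_right₀ hN']
    · rw [mul_zero]
  simp only [classInner] at h1
  simp only [mul_assoc, Finset.sum_mul, ← Finset.mul_sum] at h1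
  rw [Finset.sum_comm, mul_eq_zero] at h1
  have h2 := h1.resolve_left (inv_ne_zero (Nat.cast_ne_zero.2 Nat.card_pos.ne'))
  have e : ∀ c : Cc T, ∑ φ ∈ bset A, sec J (Cc T) (χ : G → ℂ) c * (conj ((φ : Cc T → ℂ) c) * (φ : Cc T → ℂ) 1) =
      sec J (Cc T) (χ : G → ℂ) c * if c ∈ N then (q : ℂ) else 0 := fun c => by
    rw [← he c, Finset.mul_sum]
    exact Finset.sum_congr rfl fun φ _ => by ring
  rw [Finset.sum_congr rfl fun c _ => e c] at h2
  simp only [mul_ite, mul_zero] at h2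
  rw [← Finset.sum_filter, Finset.sum_subtype (Finset.univ.filter fun c : Cc T => c ∈ N)
    (p := fun c => c ∈ N) (fun c => by simp), ← Finset.sum_mul, mul_eq_zero] at h2
  exact h2.resolve_right hq0

/-- The principal block on a section: inner products. -/
theorem sum_inner (h : Hyp T q) (hM : IsPModular 2 M) (hJ : J ∈ (T : Subgroup G)) (hJ1 : J ≠ 1)
    [N.Normal] (hNodd : ¬ 2 ∣ Nat.card N) (hNidx : N.index = q) (y y' : N) :
    ∑ χ ∈ bset (principalBlock M G), (χ : G → ℂ) (J * ((y : Cc T) : G)) *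
      conj ((χ : G → ℂ) (J * ((y' : Cc T) : G))) = (q : ℂ) := by
  classical
  haveI := Fintype.ofFinite (Cc T)
  have hc := isCentr_C h hJ hJ1
  have hx : ∃ k : ℕ, orderOf J = 2 ^ k := ⟨1, by rw [ord_two h hJ hJ1, pow_one]⟩
  rw [sum_sq_section hM hc hx principalBlock_isPBlock (odd_elt hNodd y) (odd_elt hNodd y'),
    overBlocks_principal hM hc hx, principalBlock_of_complement hM hNodd (by rw [hNidx]; exact pow_two_q h),
    ← hNidx, ← sum_sq_kernel N]
  refine Finset.sum_congr rfl fun ψ hψ => ?_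
  rw [(mem_bset.1 hψ) y y.2, (mem_bset.1 hψ) y' y'.2, irr_one_conj]

/-- In the principal block the characters are constant on the section. -/
theorem val_const (h : Hyp T q) (hM : IsPModular 2 M) (hJ : J ∈ (T : Subgroup G)) (hJ1 : J ≠ 1)
    [N.Normal] (hNodd : ¬ 2 ∣ Nat.card N) (hNidx : N.index = q) (y : N) {χ : IrrCharacter G}
    (hχ : χ ∈ principalBlock M G) : (χ : G → ℂ) (J * ((y : Cc T) : G)) = (χ : G → ℂ) J := by
  classical
  have h0 : ∑ φ ∈ bset (principalBlock M G),
      (Complex.normSq ((φ : G → ℂ) (J * ((y : Cc T) : G)) - (φ : G → ℂ) J) : ℂ) = 0 := by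
    have e1 := sum_inner h hM hJ hJ1 hNodd hNidx y y
    have e2 := sum_inner h hM hJ hJ1 hNodd hNidx y 1
    have e3 := sum_inner h hM hJ hJ1 hNodd hNidx 1 y
    have e4 := sum_inner h hM hJ hJ1 hNodd hNidx 1 1
    simp only [OneMemClass.coe_one, mul_one] at e2 e3 e4
    simp only [← Complex.mul_conj, map_sub, sub_mul, mul_sub, Finset.sum_sub_distrib, e1, e2, e3, e4, sub_self]
  have h1 : ∑ φ ∈ bset (principalBlock M G),
      Complex.normSq ((φ : G → ℂ) (J * ((y : Cc T) : G)) - (φ : G → ℂ) J) = 0 := by exact_mod_cast h0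
  exact sub_eq_zero.1 (Complex.normSq_eq_zero.1
    ((Finset.sum_eq_zero_iff_of_nonneg fun _ _ => Complex.normSq_nonneg _).1 h1 χ (mem_bset.2 hχ)))

/-- All involutions take the same value. -/
theorem val_involution (h : Hyp T q) (hJ : J ∈ (T : Subgroup G)) (hJ1 : J ≠ 1) (χ : IrrCharacter G) {x : G}
    (hx : x ∈ (T : Subgroup G)) (hx1 : x ≠ 1) : (χ : G → ℂ) x = (χ : G → ℂ) J := by
  obtain ⟨c, hc⟩ := isConj_iff.1 (isConj_inv h hJ hJ1 (ord_two h hx hx1))
  rw [← hc]
  exact irr_isClassFun χ J c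

/-- The sums of a character over the translates of the Sylow subgroup by the complement. -/
theorem sum_T_mul (h : Hyp T q) (hM : IsPModular 2 M) (hJ : J ∈ (T : Subgroup G)) (hJ1 : J ≠ 1)
    [N.Normal] [Fintype (T : Subgroup G)] (hNodd : ¬ 2 ∣ Nat.card N) (hNidx : N.index = q) (y : N)
    {χ : IrrCharacter G} (hχ : χ ∈ principalBlock M G) :
    ∑ u : (T : Subgroup G), (χ : G → ℂ) ((u : G) * ((y : Cc T) : G)) =
      (χ : G → ℂ) ((y : Cc T) : G) + ((q : ℂ) - 1) * (χ : G → ℂ) J := by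
  classical
  rw [← Finset.add_sum_erase _ _ (Finset.mem_univ (1 : (T : Subgroup G))), OneMemClass.coe_one, one_mul,
    Finset.sum_congr rfl fun u hu => by
      have hu1 : (u : G) ≠ 1 := fun e => Finset.ne_of_mem_erase hu (Subtype.ext e)
      rw [val_const h hM u.2 hu1 hNodd hNidx y hχ, val_involution h hJ hJ1 χ u.2 hu1],
    Finset.sum_const, Finset.card_erase_of_mem (Finset.mem_univ _), Finset.card_univ,
    ← Nat.card_eq_fintype_card, h.card, nsmul_eq_mul, Nat.cast_sub (by have := h.big; omega), Nat.cast_one]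

/-- The pairs of involutions with product in a section. -/
theorem pair_count (h : Hyp T q) (hJ : J ∈ (T : Subgroup G)) (hJ1 : J ≠ 1) (hNodd : ¬ 2 ∣ Nat.card N)
    (hTN : ∀ c : Cc T, (c : G) ∈ (T : Subgroup G) → c ∈ N → c = 1) [DecidableEq G]
    [DecidablePred fun st : G × G => ∃ y : N, st.1 * st.2 = J * ((y : Cc T) : G)] :
    (((Finset.univ.filter fun u : G => orderOf u = 2) ×ˢ
        (Finset.univ.filter fun u : G => orderOf u = 2)).filter fun st : G × G =>
          ∃ y : N, st.1 * st.2 = J * ((y : Cc T) : G)).card = q - 2 := by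
  classical
  have hinv : ∀ z : G, orderOf z = 2 ↔ z * z = 1 ∧ z ≠ 1 := fun z => by rw [orderOf_eq_prime_iff, sq]
  have hJJ := h.sq J hJ
  set S := (((Finset.univ : Finset G).filter fun u => u ∈ (T : Subgroup G)).erase 1).erase J with hS
  have hSc : S.card = q - 2 := by
    rw [hS, Finset.card_erase_of_mem (by simp [hJ, hJ1]), Finset.card_erase_of_mem (by simp),
      ← Fintype.card_subtype, ← Nat.card_eq_fintype_card, h.card]
    omega
  rw [← hSc, ← Finset.card_image_of_injective S (f := fun u : G => (u, u * J))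
    fun a b hab => congrArg Prod.fst hab]
  congr 1
  ext ⟨s, t⟩
  simp only [Finset.mem_filter, Finset.mem_product, Finset.mem_univ, true_and, Finset.mem_image, hS,
    Finset.mem_erase, Prod.mk.injEq]
  constructor
  · rintro ⟨⟨hs, ht⟩, y, hy⟩
    obtain ⟨hs2, hs1⟩ := (hinv s).1 hs
    obtain ⟨ht2, ht1⟩ := (hinv t).1 ht
    have htinv : t⁻¹ = t := inv_eq_of_mul_eq_one_right ht2
    have hflip : s * (s * t) * s⁻¹ = (s * t)⁻¹ := by
      rw [mul_inv_rev, htinv, ← mul_assoc, hs2, one_mul]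
    obtain ⟨m, hm⟩ : ∃ m, orderOf ((y : Cc T) : G) = 2 * m + 1 := by
      have : ¬ 2 ∣ orderOf ((y : Cc T) : G) := by rw [Subgroup.orderOf_coe]; exact odd_elt hNodd y
      exact ⟨_, (Nat.two_mul_div_two_add_one_of_odd (Nat.not_even_iff_odd.1 fun h =>
        this h.two_dvd)).symm⟩
    have hcom : Commute J ((y : Cc T) : G) := ((mem_cent_iff h hJ hJ1).1 (y : Cc T).2).symm
    have hpow : (s * t) ^ (2 * m + 1) = J := by
      rw [hy, hcom.mul_pow, ← hm, pow_orderOf_eq_one, mul_one, hm, pow_add, pow_mul, pow_two,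
        hJJ, one_pow, one_mul, pow_one]
    have hsC : s ∈ Cc T := by
      rw [mem_cent_iff h hJ hJ1]
      have h1 := congrArg (fun g => g ^ (2 * m + 1)) hflip
      simp only [conj_pow, inv_pow, hpow] at h1
      rw [inv_eq_of_mul_eq_one_right hJJ] at h1
      exact mul_inv_eq_iff_eq_mul.1 h1
    have hsT := inv_mem_T h hsC hs2
    have ht' : t = s * (J * ((y : Cc T) : G)) := by rw [← hy, ← mul_assoc, hs2, one_mul]
    have htT : t ∈ (T : Subgroup G) := inv_mem_T h
      (ht' ▸ mul_mem hsC (mul_mem (T_le_C h hJ) (y : Cc T).2)) ht2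
    have hy1 : (y : Cc T) = 1 := hTN _ (by
      have : ((y : Cc T) : G) = J⁻¹ * (s * t) := by rw [hy, inv_mul_cancel_left]
      rw [this]
      exact mul_mem (inv_mem hJ) (mul_mem hsT htT)) y.2
    have ht'' : t = s * J := by rw [ht', hy1, OneMemClass.coe_one, mul_one]
    refine ⟨s, ⟨⟨?_, hs1, hsT⟩, rfl, ht''.symm⟩⟩
    intro e
    rw [e, hJJ] at ht''
    exact ht1 ht''
  · rintro ⟨u, ⟨huJ, hu1, huT⟩, rfl, rfl⟩
    have huJ1 : u * J ≠ 1 := fun e => huJ (by
      rw [eq_inv_of_mul_eq_one_left e, inv_eq_of_mul_eq_one_right hJJ])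
    refine ⟨⟨ord_two h huT hu1, ord_two h (mul_mem huT hJ) huJ1⟩, 1, ?_⟩
    rw [OneMemClass.coe_one, OneMemClass.coe_one, mul_one, ← mul_assoc, h.sq u huT, one_mul]

end CfsgLib.EqualConj
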