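import Cfsg.Agent.Lib.EqualConj.Arith
import Cfsg.Agent.Lib.EqualConj.Section
import Cfsg.Agent.Lib.CharTheory.Linear

/-!
# The order formula
-/

set_option autoImplicit false
set_option linter.unusedVariables false
set_option linter.unusedSimpArgs false
set_option linter.style.haveILetI false
set_option linter.unusedSectionVars false

namespace CfsgLib.EqualConj

open Cfsg CfsgLib.CharTheory CfsgLib.Blocks
open CfsgLib.SmallSylow.PredTwo (involution_value)
open scoped ComplexConjugate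

universe u

variable {M : Ideal AlgInt} {G : Type u} [Group G] [Fintype G] {T : Sylow 2 G} {q : ℕ} {J : G}
  {N : Subgroup (Cc T)}

/-- The order formula, and the vanishing of the signed degree sum. -/
theorem order_formula (h : Hyp T q) (hM : IsPModular 2 M) (hJ : J ∈ (T : Subgroup G)) (hJ1 : J ≠ 1)
    [N.Normal] (hNodd : ¬ 2 ∣ Nat.card N) (hNidx : N.index = q)
    (hTN : ∀ c : Cc T, (c : G) ∈ (T : Subgroup G) → c ∈ N → c = 1) :
    (Nat.card G : ℂ) * ∑ χ ∈ bset (principalBlock M G), (χ : G → ℂ) J ^ 3 / (χ : G → ℂ) 1 =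
        (q : ℂ) * ((q : ℂ) - 2) * (Nat.card (Cc T) : ℂ) ∧
      ∑ χ ∈ bset (principalBlock M G), (χ : G → ℂ) J * (χ : G → ℂ) 1 = 0 := by
  classical
  haveI := Fintype.ofFinite N
  have hq2 : 2 ≤ q := by have := h.big; omega
  have hJ2 := ord_two h hJ hJ1
  -- reduction of sums over the section
  have hred : ∀ c : IrrCharacter G → ℂ, ∑ y : N, ∑ χ : IrrCharacter G, c χ * (χ : G → ℂ) (J * ((y : Cc T) : G)) =
      (Nat.card N : ℂ) * ∑ χ ∈ bset (principalBlock M G), c χ * (χ : G → ℂ) J := by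
    intro c
    rw [Finset.sum_comm, Finset.mul_sum]
    symm
    rw [← Finset.sum_subset (Finset.subset_univ (bset (principalBlock M G)))
      (f := fun χ => ∑ y : N, c χ * (χ : G → ℂ) (J * ((y : Cc T) : G)))
      fun χ _ hχ => by
        rw [← Finset.mul_sum, sum_outside h hM hJ hJ1 hNodd hNidx (fun h => hχ (mem_bset.2 h)), mul_zero]]
    refine Finset.sum_congr rfl fun χ hχ => ?_
    rw [Finset.sum_congr rfl fun y _ => by rw [val_const h hM hJ hJ1 hNodd hNidx y (mem_bset.1 hχ)],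
      Finset.sum_const, Finset.card_univ, ← Nat.card_eq_fintype_card, nsmul_eq_mul]
  have hNpos : (Nat.card N : ℂ) ≠ 0 := Nat.cast_ne_zero.2 Nat.card_pos.ne'
  refine ⟨?_, ?_⟩
  swap
  · have h1 := hred fun χ => (χ : G → ℂ) 1
    rw [Finset.sum_eq_zero fun y _ => ?_, eq_comm, mul_eq_zero] at h1
    · rw [← h1.resolve_left hNpos]
      exact Finset.sum_congr rfl fun χ _ => mul_comm _ _
    · have h2 := sum_irr_apply_mul_degree (J * ((y : Cc T) : G))
      rw [if_neg ?_] at h2
      · rw [← h2]; exact Finset.sum_congr rfl fun χ _ => mul_comm _ _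
      · intro e
        have hy : ((y : Cc T) : G) = J⁻¹ := eq_inv_of_mul_eq_one_right e
        exact odd_elt hNodd y (by rw [← Subgroup.orderOf_coe, hy, orderOf_inv, hJ2])
  set Cl := Finset.univ.filter (fun u : G => orderOf u = 2) with hCl
  have hset : Cl = Finset.univ.filter (fun u : G => IsConj J u) := by
    ext u
    simp only [hCl, Finset.mem_filter, Finset.mem_univ, true_and]
    exact ⟨fun hu => isConj_inv h hJ hJ1 hu, fun hu => by
      obtain ⟨c, rfl⟩ := isConj_iff.1 hu; rw [conj_orderOf, hJ2]⟩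
  set K := Nat.card {u : G // IsConj J u} with hK
  have hKC : (K : ℂ) * (Nat.card (Cc T) : ℂ) = (Nat.card G : ℂ) := by
    have he : Subgroup.centralizer ({J} : Set G) = Cc T := by
      ext g
      rw [Subgroup.mem_centralizer_singleton_iff, mem_cent_iff h hJ hJ1]
      rfl
    rw [← he]
    exact_mod_cast card_isConj_mul_card_centralizer J
  have hcount : (∑ y : N, ∑ u ∈ Cl, ∑ w ∈ Cl,
      (if u * w = J * ((y : Cc T) : G) then (1 : ℂ) else 0)) = (q : ℂ) - 2 := by
    have e : ∀ st : G × G, (∑ y : N, (if st.1 * st.2 = J * ((y : Cc T) : G) then (1 : ℂ) else 0)) =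
        if ∃ y : N, st.1 * st.2 = J * ((y : Cc T) : G) then 1 else 0 := by
      intro st
      by_cases h : ∃ y : N, st.1 * st.2 = J * ((y : Cc T) : G)
      · obtain ⟨y, hy⟩ := h
        rw [if_pos ⟨y, hy⟩, Finset.sum_eq_single y, if_pos hy]
        · intro z _ hz
          rw [if_neg fun h => hz (Subtype.ext (Subtype.ext (mul_left_cancel (h.symm.trans hy))))]
        · simp
      · rw [if_neg h]
        exact Finset.sum_eq_zero fun y _ => if_neg fun hy => h ⟨y, hy⟩
    rw [Finset.sum_comm, Finset.sum_congr rfl fun u _ => Finset.sum_comm, ← Finset.sum_product',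
      Finset.sum_congr rfl fun st _ => e st, Finset.sum_boole, hCl, pair_count h hJ hJ1 hNodd hTN,
      Nat.cast_sub hq2]
    norm_num
  have hexp' : ∀ g : G, (Nat.card G : ℂ) * ∑ u ∈ Cl, ∑ w ∈ Cl, (if u * w = g then (1 : ℂ) else 0) =
      ∑ χ : IrrCharacter G, (K : ℂ) * K * ((χ : G → ℂ) J * (χ : G → ℂ) J) / (χ : G → ℂ) 1 *
        (χ : G → ℂ) g⁻¹ := by
    intro g
    simp only [Finset.mul_sum]
    have e1 : ∀ u w : G, (Nat.card G : ℂ) * (if u * w = g then (1 : ℂ) else 0) =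
        ∑ χ : IrrCharacter G, (χ : G → ℂ) (u * w * g⁻¹) * (χ : G → ℂ) 1 := fun u w => by
      rw [sum_irr_apply_mul_degree, mul_ite, mul_one, mul_zero]
      exact if_congr mul_inv_eq_one.symm rfl rfl
    simp only [e1]
    rw [Finset.sum_congr rfl fun u _ => Finset.sum_comm, Finset.sum_comm]
    refine Finset.sum_congr rfl fun χ _ => ?_
    simp only [← Finset.sum_mul]
    have h := sum_class_class_char χ.2 J J g⁻¹
    rw [hset, h, ← hK]
    have := irr_one_ne_zero χ
    field_simp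
  have hinv : ∀ y : N, (J * ((y : Cc T) : G))⁻¹ = J * (((y⁻¹ : N) : Cc T) : G) := fun y => by
    have hcom : Commute J ((y : Cc T) : G) := ((mem_cent_iff h hJ hJ1).1 (y : Cc T).2).symm
    push_cast
    rw [hcom.eq, mul_inv_rev, inv_eq_of_mul_eq_one_right (h.sq J hJ)]
  have he := Equiv.sum_comp (Equiv.inv N)
    (fun y : N => ∑ χ : IrrCharacter G, (K : ℂ) * K * ((χ : G → ℂ) J * (χ : G → ℂ) J) /
      (χ : G → ℂ) 1 * (χ : G → ℂ) (J * ((y : Cc T) : G)))
  simp only [Equiv.inv_apply] at he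
  have hmain := congrArg (fun t => (Nat.card G : ℂ) * t) hcount
  simp only [Finset.mul_sum (s := (Finset.univ : Finset N))] at hmain
  rw [Finset.sum_congr rfl fun y _ => hexp' _, Finset.sum_congr rfl fun y _ => by rw [hinv y],
    he, hred] at hmain
  have hCN : (Nat.card (Cc T) : ℂ) = (q : ℂ) * (Nat.card N : ℂ) := by
    rw [← N.index_mul_card, hNidx, Nat.cast_mul]
  have hsum : ∑ χ ∈ bset (principalBlock M G),
      (K : ℂ) * K * ((χ : G → ℂ) J * (χ : G → ℂ) J) / (χ : G → ℂ) 1 * (χ : G → ℂ) J =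
      (K : ℂ) * K * ∑ χ ∈ bset (principalBlock M G), (χ : G → ℂ) J ^ 3 / (χ : G → ℂ) 1 := by
    rw [Finset.mul_sum]
    exact Finset.sum_congr rfl fun χ hχ => by ring
  rw [hsum] at hmain
  have hG0 : (Nat.card G : ℂ) ≠ 0 := Nat.cast_ne_zero.2 Nat.card_pos.ne'
  set S := ∑ χ ∈ bset (principalBlock M G), (χ : G → ℂ) J ^ 3 / (χ : G → ℂ) 1
  apply mul_left_cancel₀ hG0
  linear_combination ((q : ℂ) * (Nat.card (Cc T) : ℂ)) * hmain +
    (K : ℂ) ^ 2 * (Nat.card (Cc T) : ℂ) * S * hCN -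
    ((Nat.card G : ℂ) + (K : ℂ) * Nat.card (Cc T)) * S * hKC

/-- Either a nontrivial character has the complement in its kernel, or the normaliser has small index. -/
theorem kernel_or_index (h : Hyp T q) (hq : q = 4 ∨ q = 8 ∨ q = 32) (hM : IsPModular 2 M)
    (hJ : J ∈ (T : Subgroup G)) (hJ1 : J ≠ 1) [N.Normal] (hNodd : ¬ 2 ∣ Nat.card N) (hNidx : N.index = q)
    (hTN : ∀ c : Cc T, (c : G) ∈ (T : Subgroup G) → c ∈ N → c = 1) :
    (∃ χ : IrrCharacter G, (χ : G → ℂ) ≠ (fun _ => 1) ∧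
      ∀ y : N, (χ : G → ℂ) ((y : Cc T) : G) = (χ : G → ℂ) 1) ∨ (Nn T).index < 6 * q := by
  classical
  haveI := Fintype.ofFinite N
  haveI := Fintype.ofFinite (T : Subgroup G)
  have hJ2 := ord_two h hJ hJ1
  obtain ⟨hform, horth⟩ := order_formula h hM hJ hJ1 hNodd hNidx hTN
  choose a ha using fun χ : IrrCharacter G => involution_value (isCharacter_of_irr χ.2) hJ2
  set d := fun χ : IrrCharacter G => charDegree (χ : G → ℂ) with hddef
  have hd : ∀ χ : IrrCharacter G, (χ : G → ℂ) 1 = (d χ : ℂ) := fun χ => (irr_charDegree_cast χ).symm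
  choose m hm using fun χ : IrrCharacter G => (sum_subgroup_char (isCharacter_of_irr χ.2) (T : Subgroup G)).1
  have hsumT : ∀ χ ∈ principalBlock M G, ∑ u : (T : Subgroup G), (χ : G → ℂ) u =
      (d χ : ℂ) + ((q : ℂ) - 1) * (a χ : ℂ) := fun χ hχ => by
    have := sum_T_mul h hM hJ hJ1 hNodd hNidx 1 hχ
    simp only [OneMemClass.coe_one, mul_one] at this
    rw [this, hd, ha]
  by_cases hz : ∃ χ ∈ principalBlock M G, (χ : G → ℂ) ≠ (fun _ => 1) ∧ m χ = 0
  · left
    obtain ⟨χ, hχ, hne, hm0⟩ := hz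
    have hs0 : ∑ u : (T : Subgroup G), (χ : G → ℂ) u = 0 := by rw [hm, hm0, Nat.cast_zero, mul_zero]
    refine ⟨χ, hne, fun y => ?_⟩
    have h1 := (sum_subgroup_char (isCharacter_of_irr χ.2) (T : Subgroup G)).2 hs0 ((y : Cc T) : G)
    rw [sum_T_mul h hM hJ hJ1 hNodd hNidx y hχ] at h1
    rw [hsumT χ hχ, ← hd, ← ha] at hs0
    linear_combination h1 - hs0
  right
  push Not at hz
  have hone1 : ∀ g : G, ((oneIrr G : IrrCharacter G) : G → ℂ) g = 1 := fun g => rfl
  have h0a : a (oneIrr G) = 1 := by exact_mod_cast (ha (oneIrr G)).symm.trans (hone1 J)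
  have h0d : d (oneIrr G) = 1 := by exact_mod_cast (hd (oneIrr G)).symm.trans (hone1 1)
  have hσ := sigma_lower hq (bset (principalBlock M G)) (oneIrr G) (mem_bset.2 (oneIrr_mem hM)) a d m
    h0a h0d (fun χ hχ hne => ⟨?_, Nat.one_le_iff_ne_zero.2
      (hz χ (mem_bset.1 hχ) (fun e => hne (Subtype.ext e)))⟩) ?_ ?_
  · have hG : (Nat.card G : ℚ) * ∑ χ ∈ bset (principalBlock M G), (a χ : ℚ) ^ 3 / (d χ : ℚ) =
        (q : ℚ) * ((q : ℚ) - 2) * (Nat.card (Cc T) : ℚ) := by
      refine Rat.cast_injective (α := ℂ) ?_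
      push_cast
      rw [← hform]
      simp only [ha, hd]
    have hq2 : 2 ≤ q := by omega
    have hgi : (Nat.card G : ℚ) = (((q - 1) * (Nn T).index : ℕ) : ℚ) * (Nat.card (Cc T) : ℚ) := by
      rw [← index_eq h, ← Nat.cast_mul, Subgroup.index_mul_card]
    have hC0 : (0 : ℚ) < Nat.card (Cc T) := by exact_mod_cast Nat.card_pos
    have hG0 : (0 : ℚ) ≤ Nat.card G := Nat.cast_nonneg _
    have h1 := mul_le_mul_of_nonneg_left hσ hG0
    rw [hG, hgi] at h1
    have h2 : (((q - 1) * (Nn T).index : ℕ) : ℚ) ≤ ((6 * (q * (q - 2)) : ℕ) : ℚ) := by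
      push_cast [Nat.cast_sub hq2, Nat.cast_sub (show 1 ≤ q by omega)] at h1 ⊢
      nlinarith
    have h3 : (q - 1) * (Nn T).index ≤ 6 * (q * (q - 2)) := by exact_mod_cast h2
    by_contra hc
    push Not at hc
    have h4 : (q - 1) * (6 * q) ≤ (q - 1) * (Nn T).index := Nat.mul_le_mul le_rfl hc
    rcases hq with rfl | rfl | rfl <;> omega
  · have h1 := hsumT χ (mem_bset.1 hχ)
    rw [hm, h.card] at h1
    have : (((d χ : ℤ) + ((q : ℤ) - 1) * a χ : ℤ) : ℂ) = (((q : ℤ) * m χ : ℤ) : ℂ) := by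
      push_cast; linear_combination -h1
    exact Int.cast_injective this
  · have h1 := sum_inner h hM hJ hJ1 hNodd hNidx (1 : N) 1
    simp only [OneMemClass.coe_one, mul_one, ha, map_intCast] at h1
    apply Int.cast_injective (α := ℂ)
    push_cast
    rw [← h1]
    exact Finset.sum_congr rfl fun χ _ => by ring
  · apply Int.cast_injective (α := ℂ)
    push_cast
    rw [← horth]
    exact Finset.sum_congr rfl fun χ _ => by rw [ha, hd]

end CfsgLib.EqualConj
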