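import Cfsg.Agent.Lib.EqualConj.Normal
import Cfsg.Agent.Lib.EqualConj.Almost
import Cfsg.Agent.Lib.ZStar.Main
import Cfsg.Agent.Lib.BrauerSuzukiQ.Theorem
import Cfsg.Agent.Lib.RegularLinear.Cases
import Cfsg.Agent.S3378

/-!
# The case of a quaternion Sylow 2-subgroup
-/

set_option autoImplicit false
set_option linter.style.haveILetI false
set_option linter.unusedSectionVars false

namespace CfsgLib.EqualConj

open Cfsg Subgroup

universe u

variable {G : Type u} [Group G] [Finite G]

theorem quat_two_facts : (∀ q : QuaternionGroup 2, q * q = 1 → q = 1 ∨ q = QuaternionGroup.a 2) ∧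
    (∀ q : QuaternionGroup 2, q * q = 1 ∨ q * q = QuaternionGroup.a 2) ∧
    (QuaternionGroup.a 2 : QuaternionGroup 2) ≠ 1 := by decide

theorem alt_five_not_solvable : ¬ Group.IsSolvable (alternatingGroup (Fin 5)) := fun h => by
  haveI := h
  exact Equiv.Perm.not_isSolvable_fin_5 (Group.isSolvable_of_ker_le_range (alternatingGroup (Fin 5)).subtype
    Equiv.Perm.sign (fun g hg => ⟨⟨g, Equiv.Perm.mem_alternatingGroup.mpr hg⟩, rfl⟩))

/-- The central involution of a group with quaternion Sylow 2-subgroup and trivial odd core, and the quotient by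
it. -/
theorem quat_reduce (hcore : oddCore G = ⊥) (S : Sylow 2 G) (e : (S : Subgroup G) ≃* QuaternionGroup 2) :
    ∃ z : G, z ∈ Subgroup.center G ∧ orderOf z = 2 ∧ (∀ a : G, orderOf a = 2 → a = z) ∧
      ∀ [(zpowers z).Normal], oddCore (G ⧸ zpowers z) = ⊥ ∧ ∃ T : Sylow 2 (G ⧸ zpowers z),
        (∀ x ∈ (T : Subgroup (G ⧸ zpowers z)), x * x = 1) ∧ Nat.card (T : Subgroup (G ⧸ zpowers z)) = 4 ∧
        ((T : Subgroup (G ⧸ zpowers z)).Normal → (S : Subgroup G).Normal) := by
  classical
  haveI : Fact (Nat.Prime 2) := ⟨Nat.prime_two⟩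
  obtain ⟨hq1, hq2, hq3⟩ := quat_two_facts
  set z : G := ((e.symm (QuaternionGroup.a 2) : (S : Subgroup G)) : G) with hz
  have hzS : z ∈ (S : Subgroup G) := (e.symm (QuaternionGroup.a 2)).2
  have hzo : orderOf z = 2 := by
    rw [hz, Subgroup.orderOf_coe]
    refine orderOf_eq_prime ?_ fun h0 => hq3 ?_
    · rw [← map_pow, show (QuaternionGroup.a 2 : QuaternionGroup 2) ^ 2 = 1 by decide, map_one]
    · exact e.symm.injective (h0.trans (map_one _).symm)
  have huniq : ∀ x ∈ (S : Subgroup G), x * x = 1 → x = 1 ∨ x = z := by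
    intro x hx h2
    rcases hq1 (e ⟨x, hx⟩) (by rw [← map_mul, show (⟨x, hx⟩ : (S : Subgroup G)) * ⟨x, hx⟩ = 1 from Subtype.ext h2, map_one]) with h1 | h1
    · left
      exact congrArg Subtype.val (e.injective (h1.trans (map_one e).symm))
    · right
      rw [hz, ← h1, MulEquiv.symm_apply_apply]
  have hzc : z ∈ Subgroup.center G := by
    refine Subgroup.mem_center_iff.2 fun g => ?_
    have hiso := CfsgLib.ZStar.isolated_of_sylow S hzo hzS fun y hy => by
      have hyo : orderOf (y * z * y⁻¹) = 2 := by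
        rw [← hzo, ← (MulAut.conj y).orderOf_eq z]; rfl
      rcases huniq _ hy (by rw [← pow_two, ← hyo, pow_orderOf_eq_one]) with h1 | h1
      · rw [h1, orderOf_one] at hyo; norm_num at hyo
      · exact h1
    have h1 := CfsgLib.ZStar.commutator_mem hzo hiso g
    rw [show pPrimeCore 2 G = ⊥ from hcore, mem_bot, mul_inv_eq_one, mul_inv_eq_iff_eq_mul] at h1
    exact h1.symm
  have hone : ∀ a : G, orderOf a = 2 → a = z := by
    intro a ha
    obtain ⟨S', hS'⟩ := (IsPGroup.of_card (n := 1) (by rw [Nat.card_zpowers, ha, pow_one]) :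
      IsPGroup 2 (zpowers a)).exists_le_sylow
    obtain ⟨x, hxS⟩ := MulAction.exists_smul_eq G S' S
    have hm : x * a * x⁻¹ ∈ (S : Subgroup G) := by
      rw [← hxS, Sylow.coe_subgroup_smul]
      exact ⟨a, hS' (mem_zpowers a), rfl⟩
    have haa : a * a = 1 := by rw [← pow_two, ← ha, pow_orderOf_eq_one]
    have hxa : x * a * x⁻¹ * (x * a * x⁻¹) = 1 := by
      rw [show x * a * x⁻¹ * (x * a * x⁻¹) = x * (a * a) * x⁻¹ by group, haa, mul_one, mul_inv_cancel]
    rcases huniq _ hm hxa with h1 | h1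
    · rw [conj_eq_one_iff] at h1
      rw [h1, orderOf_one] at ha
      norm_num at ha
    · calc a = x⁻¹ * (x * a * x⁻¹) * x := by group
        _ = z := by rw [h1, mul_assoc, ← (Subgroup.mem_center_iff.1 hzc x), inv_mul_cancel_left]
  refine ⟨z, hzc, hzo, hone, ?_⟩
  intro hZn
  set Z := zpowers z with hZ
  have hZc : Nat.card Z = 2 := by rw [hZ, Nat.card_zpowers, hzo]
  set GQ := G ⧸ Z
  set π := QuotientGroup.mk' Z
  have hπ : Function.Surjective π := QuotientGroup.mk'_surjective Z
  -- trivial odd core of the quotient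
  have hcore' : oddCore GQ = ⊥ := by
    set L := (oddCore GQ).comap π
    have hZL : Z ≤ L := fun x hx => by
      rw [mem_comap, QuotientGroup.mk'_apply, (QuotientGroup.eq_one_iff x).2 hx]
      exact one_mem _
    have hcard : Nat.card L = Nat.card (oddCore GQ) * 2 := by
      have h1 := Subgroup.relIndex_mul_relIndex ⊥ Z L bot_le hZL
      rw [Subgroup.relIndex_bot_left, Subgroup.relIndex_bot_left, hZc,
        show Z.relIndex L = Z.relIndex ((oddCore GQ).comap π) from rfl] at h1
      have h2 : Z.relIndex L = Nat.card (oddCore GQ) := by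
        have hker : Z = (⊥ : Subgroup GQ).comap π := by
          rw [MonoidHom.comap_bot, QuotientGroup.ker_mk']
        rw [show Z.relIndex L = ((⊥ : Subgroup GQ).comap π).relIndex L by rw [← hker],
          Subgroup.relIndex_comap, Subgroup.map_comap_eq_self_of_surjective hπ, Subgroup.relIndex_bot_left]
      rw [← h1, ← h2, mul_comm]
    have hodd : Odd (Nat.card (oddCore GQ)) := CfsgLib.odd_card_oddCore
    set Zs := Z.subgroupOf L
    haveI : Zs.Normal := inferInstance
    have hZs : Nat.card Zs = 2 := (Nat.card_congr (subgroupOfEquivOfLe hZL).toEquiv).trans hZc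
    have hidx : ¬ 2 ∣ Zs.index := by
      have h1 := Zs.index_mul_card
      rw [hZs, hcard] at h1
      rw [show Zs.index = Nat.card (oddCore GQ) by omega]
      rwa [Nat.two_dvd_ne_zero, ← Nat.odd_iff]
    set PZ : Sylow 2 L := (IsPGroup.of_card (n := 1) (by rw [hZs, pow_one]) : IsPGroup 2 Zs).toSylow hidx
    obtain ⟨P', K, hK, hKP⟩ := CfsgLib.hasNormalPComplement_of_normalizer_le_centralizer PZ fun g _ =>
      mem_centralizer_iff.2 fun x hx => by
        obtain ⟨k, hk⟩ := (show (x : G) ∈ Z from hx)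
        refine Subtype.ext ?_
        show (x : G) * g = (g : G) * x
        rw [← hk]
        exact ((show Commute (g : G) z from Subgroup.mem_center_iff.1 hzc g).zpow_right k).eq.symm
    haveI := hK
    haveI : L.Normal := inferInstance
    have hK1 : K ≤ pPrimeCore 2 L := CfsgLib.le_pPrimeCore (by
      rw [← hKP.index_eq_card]
      exact ((Nat.prime_two.coprime_iff_not_dvd).2 P'.not_dvd_index).symm)
    have hKbot : K = ⊥ := by
      have h3 := (Subgroup.map_mono (f := L.subtype) hK1).trans (CfsgLib.map_pPrimeCore_le 2 L)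
      rw [show pPrimeCore 2 G = ⊥ from hcore, le_bot_iff] at h3
      exact (Subgroup.map_eq_bot_iff_of_injective K L.subtype_injective).1 h3
    rw [hKbot] at hKP
    have hP' := Subgroup.isComplement'_bot_left.1 hKP
    obtain ⟨k, hk⟩ := IsPGroup.iff_card.mp P'.2
    rw [hP', Subgroup.card_top, hcard] at hk
    refine Subgroup.eq_bot_of_card_eq _ (Nat.eq_one_of_dvd_coprimes ?_ dvd_rfl (hk ▸ dvd_mul_right _ _))
    exact ((Nat.coprime_two_right.2 hodd).pow_right k)
  -- the Sylow subgroup of the quotient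
  set T : Sylow 2 GQ := S.mapSurjective hπ
  have hTeq : (T : Subgroup GQ) = (S : Subgroup G).map π := Sylow.coe_mapSurjective hπ S
  have hsq : ∀ x ∈ (T : Subgroup GQ), x * x = 1 := by
    intro x hx
    rw [hTeq] at hx
    obtain ⟨s, hs, rfl⟩ := hx
    rw [← map_mul, QuotientGroup.mk'_apply, QuotientGroup.eq_one_iff]
    rcases hq2 (e ⟨s, hs⟩) with h1 | h1
    · have h2 : (⟨s, hs⟩ : (S : Subgroup G)) * ⟨s, hs⟩ = 1 := e.injective (by rw [map_mul, h1, map_one])
      rw [show s * s = 1 from congrArg Subtype.val h2]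
      exact one_mem _
    · have h2 : (⟨s, hs⟩ : (S : Subgroup G)) * ⟨s, hs⟩ = e.symm (QuaternionGroup.a 2) :=
        e.injective (by rw [map_mul, h1, MulEquiv.apply_symm_apply])
      rw [show s * s = z from congrArg Subtype.val h2]
      exact mem_zpowers z
  have hS8 : Nat.card (S : Subgroup G) = 8 := by
    rw [Nat.card_congr e.toEquiv, Nat.card_eq_fintype_card, QuaternionGroup.card]
  have hZS : Z ≤ (S : Subgroup G) := zpowers_le.2 hzS
  have hT4 : Nat.card (T : Subgroup GQ) = 4 := by
    have h1 : Nat.card (T : Subgroup GQ) = Z.relIndex (S : Subgroup G) := by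
      have hker : Z = (⊥ : Subgroup GQ).comap π := by rw [MonoidHom.comap_bot, QuotientGroup.ker_mk']
      rw [show Z.relIndex (S : Subgroup G) = ((⊥ : Subgroup GQ).comap π).relIndex (S : Subgroup G) by rw [← hker],
        Subgroup.relIndex_comap, ← hTeq, Subgroup.relIndex_bot_left]
    have h2 := Subgroup.relIndex_mul_relIndex ⊥ Z (S : Subgroup G) bot_le hZS
    rw [Subgroup.relIndex_bot_left, Subgroup.relIndex_bot_left, hZc, hS8] at h2
    omega
  refine ⟨hcore', T, hsq, hT4, fun hn => ?_⟩
  haveI := hn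
  have h1 : (S : Subgroup G) = (T : Subgroup GQ).comap π := by
    rw [hTeq, Subgroup.comap_map_eq, QuotientGroup.ker_mk', sup_eq_left.2 hZS]
  rw [h1]
  infer_instance

/-- A group of order 24 with a normal quaternion Sylow subgroup and trivial odd core. -/
theorem quat_sl23 (hcore : oddCore G = ⊥) (S : Sylow 2 G) (e : (S : Subgroup G) ≃* QuaternionGroup 2)
    [(S : Subgroup G).Normal] (h24 : Nat.card G = 24) :
    Nonempty (G ≃* Matrix.SpecialLinearGroup (Fin 2) (ZMod 3)) := by
  have hS8 : Nat.card (S : Subgroup G) = 8 := by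
    rw [Nat.card_congr e.toEquiv, Nat.card_eq_fintype_card, QuaternionGroup.card]
  haveI : Fact (Nat.Prime 3) := ⟨Nat.prime_three⟩
  obtain ⟨y, hy⟩ := exists_prime_orderOf_dvd_card' (G := G) 3 (by rw [h24]; norm_num)
  have hyC : y ∉ Subgroup.centralizer ((S : Subgroup G) : Set G) := by
    intro hyc
    have hYc : Nat.card (zpowers y) = 3 := by rw [Nat.card_zpowers, hy]
    have hdisj : Disjoint (S : Subgroup G) (zpowers y) := disjoint_iff.2
      (Subgroup.inf_eq_bot_of_coprime (by rw [hS8, hYc]; norm_num))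
    have hsup : (S : Subgroup G) ⊔ zpowers y = ⊤ := by
      refine Subgroup.eq_top_of_le_card _ ?_
      have h1 : 8 ∣ Nat.card ↥((S : Subgroup G) ⊔ zpowers y) := hS8 ▸ Subgroup.card_dvd_of_le le_sup_left
      have h2 : 3 ∣ Nat.card ↥((S : Subgroup G) ⊔ zpowers y) := hYc ▸ Subgroup.card_dvd_of_le le_sup_right
      rw [h24]
      exact Nat.le_of_dvd Nat.card_pos (Nat.Coprime.mul_dvd_of_dvd_of_dvd (by norm_num : Nat.Coprime 8 3) h1 h2)
    have hyn : (zpowers y).Normal := by
      rw [← normalizer_eq_top_iff, eq_top_iff, ← hsup]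
      refine sup_le (fun s hs => ?_) le_normalizer
      have hc : ∀ k : ℤ, s * y ^ k = y ^ k * s := fun k =>
        ((show Commute s y from mem_centralizer_iff.1 hyc s hs).zpow_right k).eq
      rw [mem_normalizer_iff]
      intro x
      constructor
      · rintro ⟨k, rfl⟩
        show s * y ^ k * s⁻¹ ∈ _
        rw [hc, mul_inv_cancel_right]
        exact zpow_mem (mem_zpowers y) k
      · rintro ⟨k, hk⟩
        refine ⟨k, ?_⟩
        have h1 : x = s⁻¹ * (s * x * s⁻¹) * s := by group
        rw [h1, ← hk]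
        show y ^ k = s⁻¹ * y ^ k * s
        rw [mul_assoc, ← hc, inv_mul_cancel_left]
    have h1 : zpowers y ≤ oddCore G := CfsgLib.le_oddCore (by rw [hYc]; decide)
    rw [hcore, le_bot_iff] at h1
    rw [h1, Subgroup.card_bot] at hYc
    norm_num at hYc
  obtain ⟨φ, hφ⟩ := CfsgLib.RegularLinear.exists_sl23 e hy hyC
  refine ⟨(MulEquiv.ofBijective φ ((Nat.bijective_iff_injective_and_card φ).2 ⟨hφ, ?_⟩)).symm⟩
  rw [CfsgLib.RegularLinear.sl23_card, h24]

/-- The groups with a quaternion Sylow 2-subgroup and trivial odd core. -/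
theorem quat_case (hE : EOC G) (hcore : oddCore G = ⊥) (S : Sylow 2 G)
    (e : (S : Subgroup G) ≃* QuaternionGroup 2) :
    Nonempty (G ≃* Matrix.SpecialLinearGroup (Fin 2) (ZMod 3)) ∨
    Nonempty (G ≃* Matrix.SpecialLinearGroup (Fin 2) (ZMod 5)) := by
  classical
  obtain ⟨z, hzc, hzo, -, hrest⟩ := quat_reduce hcore S e
  set Z := zpowers z with hZ
  haveI : Z.Normal := ⟨fun x hx g => by
    obtain ⟨k, rfl⟩ := hx
    show g * z ^ k * g⁻¹ ∈ Z
    rw [((show Commute g z from Subgroup.mem_center_iff.1 hzc g).zpow_right k).eq, mul_inv_cancel_right]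
    exact zpow_mem (mem_zpowers z) k⟩
  obtain ⟨hcore', T, hsq, hT4, hTS⟩ := hrest
  set GQ := G ⧸ Z
  set π := QuotientGroup.mk' Z
  have hset : Setup T := ⟨hE.quotient Z, hcore', hsq, hT4.ge⟩
  have hG : Nat.card G = Nat.card GQ * 2 := by
    rw [Subgroup.card_eq_card_quotient_mul_card_subgroup Z, hZ, Nat.card_zpowers, hzo]
  by_cases hn : (T : Subgroup GQ).Normal
  · left
    obtain ⟨-, ⟨f⟩⟩ := (hset.normal_case hn).resolve_right fun h => h.1 hT4
    have h24 : Nat.card G = 24 := by
      rw [hG, Nat.card_congr f.toEquiv, nat_card_alternatingGroup, Nat.card_fin]; rfl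
    haveI := hTS hn
    exact quat_sl23 hcore S e h24
  · right
    obtain ⟨-, ⟨f⟩⟩ := (hset.almost_case hn).resolve_right fun h => h.1 hT4
    have h120 : Nat.card G = 120 := by
      rw [hG, Nat.card_congr f.toEquiv, nat_card_alternatingGroup, Nat.card_fin]; rfl
    refine Cfsg.Agent.S3378.result.1 G h120 (fun hs => ?_) fun P => ⟨(P.equiv S).trans e⟩
    haveI := hs
    exact alt_five_not_solvable (Group.isSolvable_of_surjective (f := f.toMonoidHom.comp π) (f.surjective.comp (QuotientGroup.mk'_surjective Z)))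

end CfsgLib.EqualConj
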