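import Cfsg.Agent.Lib.EqualConj.Local
import Cfsg.Agent.Lib.EqualConj.Models
import Cfsg.Agent.Lib.OddOrder.FeitThompson

/-!
# Subgroups of equal order conjugate: the normaliser of the Sylow 2-subgroup
-/

set_option autoImplicit false
set_option linter.unusedSectionVars false
set_option linter.style.haveILetI false

namespace CfsgLib.EqualConj

open Cfsg Subgroup

universe u

variable {G : Type u} [Group G] [Finite G] {T : Sylow 2 G}

theorem Setup.ord (h : Setup T) {x : G} (hx : x ∈ (T : Subgroup G)) (hx1 : x ≠ 1) : orderOf x = 2 := by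
  haveI : Fact (Nat.Prime 2) := ⟨Nat.prime_two⟩
  exact orderOf_eq_prime (by rw [pow_two]; exact h.sq x hx) hx1

/-- Orbit and stabiliser of a nontrivial element of the Sylow subgroup. -/
theorem Setup.relIndex_cent (h : Setup T) {L : Subgroup G} (hL : L ≤ Nn T) {t : G}
    (ht : t ∈ (T : Subgroup G)) (ht1 : t ≠ 1)
    (htr : ∀ y ∈ (T : Subgroup G), y ≠ 1 → ∃ n ∈ L, n * t * n⁻¹ = y) :
    (centralizer ({t} : Set G)).relIndex L = Nat.card (T : Subgroup G) - 1 := by
  classical
  haveI := Fintype.ofFinite (T : Subgroup G)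
  set H := (centralizer ({t} : Set G)).subgroupOf L
  show H.index = _
  have hmem : ∀ n : L, (n : G) * t * (n : G)⁻¹ ∈ (T : Subgroup G) := fun n =>
    (mem_normalizer_iff.1 (hL n.2) t).1 ht
  have hne : ∀ n : L, (⟨_, hmem n⟩ : (T : Subgroup G)) ≠ 1 := fun n e => by
    have := congrArg Subtype.val e
    exact ht1 (conj_eq_one_iff.1 this)
  have hH : ∀ a b : L, a⁻¹ * b ∈ H ↔ (a : G) * t * (a : G)⁻¹ = (b : G) * t * (b : G)⁻¹ := by
    intro a b
    rw [mem_subgroupOf, mem_centralizer_singleton_iff, Subgroup.coe_mul, Subgroup.coe_inv]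
    constructor
    · intro e
      calc (a : G) * t * (a : G)⁻¹ = (a : G) * (t * ((a : G)⁻¹ * b)) * (b : G)⁻¹ := by group
        _ = (b : G) * t * (b : G)⁻¹ := by rw [← e]; group
    · intro e
      calc (a : G)⁻¹ * b * t = (a : G)⁻¹ * ((b : G) * t * (b : G)⁻¹) * b := by group
        _ = t * ((a : G)⁻¹ * b) := by rw [← e]; group
  let f : L ⧸ H → {v : (T : Subgroup G) // v ≠ 1} :=
    Quotient.lift (fun n : L => (⟨⟨_, hmem n⟩, hne n⟩ : {v : (T : Subgroup G) // v ≠ 1})) (fun a b hab => by
      refine Subtype.ext (Subtype.ext ?_)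
      exact (hH a b).1 (QuotientGroup.leftRel_apply.1 hab))
  have hf : Function.Bijective f := by
    constructor
    · rintro ⟨a⟩ ⟨b⟩ e
      refine Quotient.sound (QuotientGroup.leftRel_apply.2 ((hH a b).2 ?_))
      exact congrArg (fun v : {v : (T : Subgroup G) // v ≠ 1} => ((v : (T : Subgroup G)) : G)) e
    · rintro ⟨y, hy⟩
      obtain ⟨n, hn, hny⟩ := htr y y.2 (fun e => hy (Subtype.ext e))
      exact ⟨QuotientGroup.mk ⟨n, hn⟩, Subtype.ext (Subtype.ext hny)⟩
  rw [Subgroup.index_eq_card, Nat.card_congr (Equiv.ofBijective f hf), Nat.card_eq_fintype_card,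
    Fintype.card_subtype_compl, Fintype.card_subtype_eq, ← Nat.card_eq_fintype_card]

theorem Setup.T_le_C (h : Setup T) : (T : Subgroup G) ≤ Cc T := fun _ hx =>
  mem_centralizer_iff.2 fun _ hy => h.comm hy hx

theorem Cc_le_cent {t : G} (ht : t ∈ (T : Subgroup G)) : Cc T ≤ centralizer ({t} : Set G) := fun _ hc =>
  mem_centralizer_singleton_iff.2 (mem_centralizer_iff.1 hc t ht).symm

theorem Setup.cent_le_N (h : Setup T) {t : G} (ht : t ∈ (T : Subgroup G)) (ht1 : t ≠ 1) :
    centralizer ({t} : Set G) ≤ Nn T := fun _ hg =>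
  h.cent_le_normalizer ht (h.ord ht ht1) (mem_centralizer_singleton_iff.1 hg)

/-- The index of the centraliser of the Sylow subgroup in its normaliser. -/
theorem Setup.relIndex_C (h : Setup T) {t : G} (ht : t ∈ (T : Subgroup G)) (ht1 : t ≠ 1) :
    (Cc T).relIndex (Nn T) =
      (Cc T).relIndex (centralizer ({t} : Set G)) * (Nat.card (T : Subgroup G) - 1) := by
  rw [← h.relIndex_cent le_rfl ht ht1 (fun y hy hy1 => h.transitive ht hy ht1 hy1),
    Subgroup.relIndex_mul_relIndex _ _ _ (Cc_le_cent ht) (h.cent_le_N ht ht1)]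

theorem Setup.relIndex_odd (h : Setup T) : ¬ 2 ∣ (Cc T).relIndex (Nn T) := by
  haveI : Fact (Nat.Prime 2) := ⟨Nat.prime_two⟩
  intro h2
  exact T.not_dvd_index ((h2.trans (Subgroup.relIndex_dvd_index_of_le (C_le_N (T := T)))).trans
    (Subgroup.index_dvd_of_le h.T_le_C))

/-- Data on the odd core of the normaliser. -/
theorem Setup.core_index (h : Setup T) :
    (pPrimeCore 2 ↥(Nn T)).index = (Cc T).relIndex (Nn T) * Nat.card (T : Subgroup G) := by
  haveI : Fact (Nat.Prime 2) := ⟨Nat.prime_two⟩
  set N := Nn T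
  set P := (T : Subgroup G).subgroupOf N
  haveI : P.Normal := normal_in_normalizer
  set C := (Cc T).subgroupOf N with hC
  set K := pPrimeCore 2 ↥N with hK
  have hKodd : ¬ 2 ∣ Nat.card K := CfsgLib.not_dvd_card_pPrimeCore Nat.prime_two
  have hPcard : Nat.card P = Nat.card (T : Subgroup G) := Nat.card_congr (subgroupOfEquivOfLe le_normalizer).toEquiv
  obtain ⟨k, hk⟩ := IsPGroup.iff_card.mp T.2
  have hKC : K ≤ C := by
    intro x hx
    rw [hC, mem_subgroupOf, mem_centralizer_iff]
    intro y hy
    have hdis : Disjoint K P := disjoint_iff.2 (Subgroup.inf_eq_bot_of_coprime (by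
      rw [hPcard, hk]
      exact (((Nat.prime_two.coprime_iff_not_dvd).2 hKodd).symm).pow_right k))
    exact (congrArg Subtype.val (Subgroup.commute_of_normal_of_disjoint K P inferInstance inferInstance hdis x
      (⟨y, le_normalizer hy⟩ : N) hx hy)).symm
  rw [← Subgroup.relIndex_mul_index hKC, show C.index = (Cc T).relIndex N from rfl, mul_comm]
  congr 1
  -- the complement inside the centraliser
  have hCPd : Nat.card P ∣ K.relIndex C := by
    have hPC : P ≤ C := fun x hx => h.T_le_C hx
    have h1 : Nat.card P ∣ K.relIndex C * Nat.card K := by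
      have h2 := Subgroup.relIndex_mul_relIndex ⊥ K C bot_le hKC
      rw [Subgroup.relIndex_bot_left, Subgroup.relIndex_bot_left] at h2
      rw [mul_comm, h2]
      exact Subgroup.card_dvd_of_le hPC
    refine Nat.Coprime.dvd_of_dvd_mul_right ?_ h1
    rw [hPcard, hk]
    exact ((Nat.prime_two.coprime_iff_not_dvd).2 hKodd).pow_left k
  refine Nat.dvd_antisymm ?_ (hPcard ▸ hCPd)
  set Q : Sylow 2 (Cc T) := T.subtype h.T_le_C
  obtain ⟨Q', O, hO, hOQ⟩ := CfsgLib.hasNormalPComplement_of_normalizer_le_centralizer Q fun c _ =>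
    mem_centralizer_iff.2 fun x hx => Subtype.ext (mem_centralizer_iff.1 c.2 x hx)
  haveI := hO
  have hOodd : ¬ 2 ∣ Nat.card O := by rw [← hOQ.index_eq_card]; exact Q'.not_dvd_index
  have hOidx : O.index = Nat.card (T : Subgroup G) := by
    rw [hOQ.symm.index_eq_card, Sylow.card_eq_multiplicity Q', ← Sylow.card_eq_multiplicity Q]
    exact Nat.card_congr (subgroupOfEquivOfLe h.T_le_C).toEquiv
  -- odd elements of the centraliser lie in the complement
  have hodd : ∀ c : Cc T, ¬ 2 ∣ orderOf c → c ∈ O := fun c hc => by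
    rw [← QuotientGroup.eq_one_iff, ← orderOf_eq_one_iff]
    refine Nat.eq_one_of_dvd_coprimes (((Nat.prime_two.coprime_iff_not_dvd).2 hc).pow_left k) ?_
      (orderOf_map_dvd (QuotientGroup.mk' O) c)
    rw [← hk, ← hOidx]
    exact orderOf_dvd_natCard _
  set O' : Subgroup N := (O.map (Cc T).subtype).subgroupOf N with hO'
  haveI : O'.Normal := ⟨fun x hx g => by
    rw [hO', mem_subgroupOf] at hx ⊢
    obtain ⟨o, ho, hox⟩ := hx
    have hg : ∀ z ∈ (T : Subgroup G), (g : G)⁻¹ * z * (g : G) ∈ (T : Subgroup G) := fun z hz =>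
      (mem_normalizer_iff''.1 g.2 z).1 hz
    have hmem : (g : G) * (o : G) * (g : G)⁻¹ ∈ Cc T := mem_centralizer_iff.2 fun z hz => by
      have h1 := mem_centralizer_iff.1 o.2 _ (hg z hz)
      calc z * ((g : G) * (o : G) * (g : G)⁻¹) = g * ((g : G)⁻¹ * z * g * o) * (g : G)⁻¹ := by group
        _ = (g : G) * (o : G) * (g : G)⁻¹ * z := by rw [h1]; group
    refine ⟨⟨_, hmem⟩, hodd _ ?_, ?_⟩
    · rw [← Subgroup.orderOf_coe]
      show ¬ 2 ∣ orderOf (MulAut.conj (g : G) (o : G))
      rw [MulEquiv.orderOf_eq, Subgroup.orderOf_coe]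
      exact fun h2 => hOodd (h2.trans (Subgroup.orderOf_dvd_natCard O ho))
    · show (g : G) * (o : G) * (g : G)⁻¹ = ((g * x * g⁻¹ : N) : G)
      rw [show (o : G) = (x : G) from hox]
      simp⟩
  have hO'K : O' ≤ K := CfsgLib.le_pPrimeCore (by
    have hle : O.map (Cc T).subtype ≤ N := (map_subtype_le O).trans C_le_N
    rw [Nat.card_congr (subgroupOfEquivOfLe hle).toEquiv, card_map_of_injective (Cc T).subtype_injective]
    exact ((Nat.prime_two.coprime_iff_not_dvd).2 hOodd).symm)
  refine (Subgroup.relIndex_dvd_of_le_left C hO'K).trans ?_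
  rw [hO', hC, Subgroup.relIndex_subgroupOf C_le_N, ← hOidx]
  have : (O.map (Cc T).subtype).relIndex (Cc T) = O.index := by
    show ((O.map (Cc T).subtype).subgroupOf (Cc T)).index = O.index
    rw [Subgroup.subgroupOf, Subgroup.comap_map_eq_self_of_injective (Cc T).subtype_injective]
  rw [this]

/-- The possible orders and stabiliser indices. -/
theorem Setup.cases (h : Setup T) {t : G} (ht : t ∈ (T : Subgroup G)) (ht1 : t ≠ 1) :
    (Nat.card (T : Subgroup G) = 4 ∧ (Cc T).relIndex (centralizer ({t} : Set G)) = 1) ∨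
    (Nat.card (T : Subgroup G) = 8 ∧ ((Cc T).relIndex (centralizer ({t} : Set G)) = 1 ∧
        Nonempty (↥(Nn T) ⧸ pPrimeCore 2 ↥(Nn T) ≃* Cfsg.affineGroup (GaloisField 2 3)) ∨
      (Cc T).relIndex (centralizer ({t} : Set G)) = 3 ∧
        Nonempty (↥(Nn T) ⧸ pPrimeCore 2 ↥(Nn T) ≃* Cfsg.semiaffineGroup (GaloisField 2 3)))) ∨
    (Nat.card (T : Subgroup G) = 32 ∧ (Cc T).relIndex (centralizer ({t} : Set G)) = 5 ∧
        Nonempty (↥(Nn T) ⧸ pPrimeCore 2 ↥(Nn T) ≃* Cfsg.semiaffineGroup (GaloisField 2 5))) := by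
  classical
  haveI : Fact (Nat.Prime 2) := ⟨Nat.prime_two⟩
  obtain ⟨n, hn⟩ := IsPGroup.iff_card.mp T.2
  have hn2 : 2 ≤ n := by
    by_contra hc
    have : 2 ^ n ≤ 2 ^ 1 := Nat.pow_le_pow_right two_pos (by omega)
    have := h.big
    omega
  set e := (Cc T).relIndex (centralizer ({t} : Set G)) with he
  have hrel : (Cc T).relIndex (Nn T) = e * (Nat.card (T : Subgroup G) - 1) := h.relIndex_C ht ht1
  have heodd : ¬ 2 ∣ e := fun h2 => h.relIndex_odd (by rw [hrel]; exact h2.mul_right _)
  rcases hn2.eq_or_lt with hn2' | hn3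
  · -- order four
    left
    have h4 : Nat.card (T : Subgroup G) = 4 := by rw [hn, ← hn2']; norm_num
    refine ⟨h4, ?_⟩
    by_contra he1
    haveI : ((Cc T).subgroupOf (centralizer ({t} : Set G))).Normal := by
      refine Subgroup.normal_subgroupOf_of_le_normalizer fun g hg => ?_
      have hgN := h.cent_le_N ht ht1 hg
      rw [mem_normalizer_iff]
      intro c
      constructor
      · intro hc
        rw [mem_centralizer_iff] at hc ⊢
        intro z hz
        have h1 := hc _ ((mem_normalizer_iff''.1 hgN z).1 hz)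
        calc z * (g * c * g⁻¹) = g * (g⁻¹ * z * g * c) * g⁻¹ := by group
          _ = g * c * g⁻¹ * z := by rw [h1]; group
      · intro hc
        rw [mem_centralizer_iff] at hc ⊢
        intro z hz
        have h1 := hc _ ((mem_normalizer_iff.1 hgN z).1 hz)
        calc z * c = g⁻¹ * (g * z * g⁻¹ * (g * c * g⁻¹)) * g := by group
          _ = c * z := by rw [h1]; group
    set Q := (centralizer ({t} : Set G)) ⧸ (Cc T).subgroupOf (centralizer ({t} : Set G))
    have hQ : Nat.card Q = e := (Subgroup.index_eq_card _).symm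
    -- every square lies in the centraliser
    have hsq : ∀ x : Q, x ^ 2 = 1 := by
      intro x
      obtain ⟨g, rfl⟩ := QuotientGroup.mk'_surjective _ x
      rw [← map_pow, QuotientGroup.mk'_apply, QuotientGroup.eq_one_iff, mem_subgroupOf, mem_centralizer_iff]
      intro z hz
      have hgN := h.cent_le_N ht ht1 g.2
      have hgt : (g : G) * t * (g : G)⁻¹ = t := by
        rw [mem_centralizer_singleton_iff.1 g.2, mul_inv_cancel_right]
      set cg := fun w : G => (g : G) * w * (g : G)⁻¹ with hcg
      have hcgT : ∀ w ∈ (T : Subgroup G), cg w ∈ (T : Subgroup G) := fun w hw => (mem_normalizer_iff.1 hgN w).1 hw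
      have key : cg (cg z) = z := by
        by_cases hz1 : z = 1
        · simp [hcg, hz1]
        by_cases hzt : z = t
        · simp only [hcg, hzt, hgt]
        -- the four elements
        have hfour : ∀ w ∈ (T : Subgroup G), w = 1 ∨ w = t ∨ w = z ∨ w = z * t := by
          intro w hw
          haveI := Fintype.ofFinite (T : Subgroup G)
          by_contra hcon
          push Not at hcon
          obtain ⟨w1, w2, w3, w4⟩ := hcon
          have hzt1 : z * t ≠ 1 := fun e => hzt (by
            rw [eq_inv_of_mul_eq_one_left e, inv_eq_of_mul_eq_one_right (h.sq t ht)])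
          have hztt : z * t ≠ t := fun e => hz1 (mul_eq_right.1 e)
          have hztz : z * t ≠ z := fun e => ht1 (mul_eq_left.1 e)
          have h5 : ({1, t, z, z * t, w} : Finset G).card ≤ Nat.card (T : Subgroup G) := by
            rw [Nat.card_eq_fintype_card, ← Fintype.card_coe]
            refine Fintype.card_le_of_injective (fun a => (⟨(a : G), by
              have := a.2
              simp only [Finset.mem_insert, Finset.mem_singleton] at this
              rcases this with h | h | h | h | h <;> rw [h]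
              exacts [one_mem _, ht, hz, mul_mem hz ht, hw]⟩ : (T : Subgroup G))) fun a b hab => ?_
            exact Subtype.ext (congrArg (fun v : (T : Subgroup G) => (v : G)) hab)
          rw [Finset.card_insert_of_notMem, Finset.card_insert_of_notMem, Finset.card_insert_of_notMem,
            Finset.card_pair (Ne.symm w4)] at h5
          · omega
          · simp [Ne.symm hztz, Ne.symm w3]
          · simp [Ne.symm hzt, Ne.symm hztt, Ne.symm w2]
          · simp [Ne.symm ht1, Ne.symm hz1, Ne.symm hzt1, Ne.symm w1]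
        have hmul : ∀ a b, cg (a * b) = cg a * cg b := fun a b => by simp [hcg, mul_assoc]
        rcases hfour _ (hcgT z hz) with h1 | h1 | h1 | h1
        · exact absurd (conj_eq_one_iff.1 h1) hz1
        · exact absurd ((MulAut.conj (g : G)).injective (h1.trans hgt.symm)) hzt
        · rw [h1, h1]
        · rw [h1, hmul, h1, show cg t = t from hgt, mul_assoc, h.sq t ht, mul_one]
      have h2 : ((g ^ 2 : centralizer ({t} : Set G)) : G) * z * ((g ^ 2 : centralizer ({t} : Set G)) : G)⁻¹ = z := by
        calc _ = cg (cg z) := by simp [hcg, pow_two, mul_assoc]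
          _ = z := key
      exact (mul_inv_eq_iff_eq_mul.1 h2).symm
    have h1 : IsPGroup 2 Q := fun x => ⟨1, by rw [pow_one]; exact hsq x⟩
    obtain ⟨j, hj⟩ := IsPGroup.iff_card.mp h1
    rw [hQ] at hj
    rcases Nat.eq_zero_or_pos j with rfl | hj0
    · exact he1 hj
    · exact heodd (hj ▸ dvd_pow_self 2 hj0.ne')
  · -- order at least eight
    have hel : Cfsg.IsElementaryAbelian 2 (T : Subgroup G) :=
      ⟨⟨⟨fun a b => Subtype.ext (h.comm a.2 b.2)⟩⟩, fun a ha => by rw [pow_two]; exact h.sq a ha⟩
    haveI hsolv : Group.IsSolvable (↥(Nn T) ⧸ pPrimeCore 2 ↥(Nn T)) := by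
      have hN : Group.IsSolvable ↥(Nn T) := by
        set P := (T : Subgroup G).subgroupOf (Nn T)
        haveI : P.Normal := normal_in_normalizer
        refine (Group.isSolvable_iff_subgroup_quotient P).2 ⟨?_, ?_⟩
        · exact Group.isSolvable_of_comm fun a b => Subtype.ext (Subtype.ext (h.comm a.2 b.2))
        · refine CfsgLib.OddOrder.feitThompson ?_
          rw [← Subgroup.index_eq_card, Nat.odd_iff, ← Nat.two_dvd_ne_zero]
          exact fun h2 => T.not_dvd_index (h2.trans (Subgroup.relIndex_dvd_index_of_le le_normalizer))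
      haveI := hN
      exact solvable_of_surjective (QuotientGroup.mk'_surjective _)
    have hidx : Nat.card (↥(Nn T) ⧸ pPrimeCore 2 ↥(Nn T)) =
        e * (Nat.card (T : Subgroup G) - 1) * Nat.card (T : Subgroup G) := by
      rw [← Subgroup.index_eq_card, h.core_index, hrel]
    rcases Cfsg.Agent.S4025.result (fun H K _ _ hc => h.eoc H K hc) T n hn3 hel hn (Nn T) rfl hsolv with
      ⟨rfl, -, hiso⟩ | ⟨rfl, -, hiso⟩
    · right; left
      refine ⟨by rw [hn]; norm_num, ?_⟩
      haveI := Fact.mk Nat.prime_two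
      have hF : Nat.card (GaloisField 2 3) = 2 ^ 3 := GaloisField.card 2 3 (by norm_num)
      rcases hiso rfl with hf | hf
      · obtain ⟨f⟩ := hf
        right
        refine ⟨?_, ⟨f⟩⟩
        have := Nat.card_congr f.toEquiv
        rw [hidx, hn, card_semiaffine 2 3 hF] at this
        norm_num at this
        omega
      · obtain ⟨f⟩ := hf
        left
        refine ⟨?_, ⟨f⟩⟩
        have hle : Nat.card (↥(Nn T) ⧸ pPrimeCore 2 ↥(Nn T)) ≤ _ :=
          (Nat.card_congr f.toEquiv).le.trans (Cfsg.Agent.S4025.card_affine_le 2 3 hF)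
        rw [hidx, hn] at hle
        norm_num at hle
        omega
    · right; right
      refine ⟨by rw [hn]; norm_num, ?_, hiso⟩
      obtain ⟨f⟩ := hiso
      have := Nat.card_congr f.toEquiv
      rw [hidx, hn, card_semiaffine 2 5 (GaloisField.card 2 5 (by norm_num))] at this
      norm_num at this
      omega

end CfsgLib.EqualConj
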