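import Cfsg.Agent.Lib.EqualConj.InSimple

/-!
# Stabilisers inside the simple normal subgroup are trivial
-/

set_option autoImplicit false
set_option linter.style.haveILetI false
set_option linter.unusedSectionVars false

namespace CfsgLib.EqualConj

open Cfsg Subgroup

universe u

variable {G : Type u} [Group G] [Finite G] {T : Sylow 2 G}

/-- An odd abelian Sylow subgroup. -/
theorem sylow_odd_cases (hE : EOC G) {r : ℕ} [hr : Fact r.Prime] (hr2 : r ≠ 2) {A : Subgroup G} (hA : IsPGroup r A) :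
    (∀ a ∈ A, ∀ b ∈ A, a * b = b * a) ∧ (IsCyclic A ∨ ∀ a ∈ A, a ^ r = 1) := by
  obtain ⟨R, hR⟩ := hA.exists_le_sylow
  rcases Cfsg.Agent.S4020.result (fun p _ H K _ _ hc => hE H K hc) R with hc | hel | ⟨⟨e⟩⟩
  · haveI := hc
    haveI : IsMulCommutative (R : Subgroup G) := IsCyclic.isMulCommutative
    refine ⟨fun a ha b hb => congrArg Subtype.val (IsMulCommutative.is_comm.comm
      (⟨a, hR ha⟩ : (R : Subgroup G)) ⟨b, hR hb⟩), Or.inl ?_⟩
    exact isCyclic_of_injective (Subgroup.inclusion hR) (Subgroup.inclusion_injective hR)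
  · haveI := hel.1
    exact ⟨fun a ha b hb => congrArg Subtype.val (IsMulCommutative.is_comm.comm
      (⟨a, hR ha⟩ : (R : Subgroup G)) ⟨b, hR hb⟩), Or.inr fun a ha => hel.2 a (hR ha)⟩
  · exfalso
    obtain ⟨k, hk⟩ := IsPGroup.iff_card.mp R.2
    rw [Nat.card_congr e.toEquiv, Nat.card_eq_fintype_card, QuaternionGroup.card] at hk
    have h2 : 2 ∣ r ^ k := hk ▸ by norm_num
    exact hr2 ((Nat.prime_dvd_prime_iff_eq Nat.prime_two hr.out).1 (Nat.prime_two.dvd_of_dvd_pow h2)).symm

/-- The main statement: inside the simple subgroup stabilisers act trivially. -/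
theorem Setup.stab_trivial (h : Setup T) {M : Subgroup G} [hMn : M.Normal] (hTM : (T : Subgroup G) ≤ M)
    (hS : IsSimpleGroup M) {t : G} (ht : t ∈ (T : Subgroup G)) (ht1 : t ≠ 1) {c : G} (hcM : c ∈ M)
    (hct : c * t = t * c) : c ∈ Cc T := by
  classical
  haveI : Fact (Nat.Prime 2) := ⟨Nat.prime_two⟩
  set Ct := centralizer ({t} : Set G) with hCt
  have hle : Cc T ≤ Ct := Cc_le_cent ht
  set e := (Cc T).relIndex Ct with he
  have hcC : c ∈ Ct := mem_centralizer_singleton_iff.2 hct
  by_contra hcT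
  -- the stabiliser index is an odd prime
  obtain ⟨r, her, hr, hqr⟩ : ∃ r, e = r ∧ r.Prime ∧
      ((Nat.card (T : Subgroup G) = 8 ∧ r = 3) ∨ (Nat.card (T : Subgroup G) = 32 ∧ r = 5)) := by
    have hne : e ≠ 1 := fun e1 => hcT (Subgroup.relIndex_eq_one.1 e1 hcC)
    rcases h.cases ht ht1 with ⟨-, e1⟩ | ⟨hq, ⟨e1, -⟩ | ⟨e3, -⟩⟩ | ⟨hq, e5, -⟩
    · exact absurd e1 hne
    · exact absurd e1 hne
    · exact ⟨3, e3, Nat.prime_three, Or.inl ⟨hq, rfl⟩⟩
    · exact ⟨5, e5, Nat.prime_five, Or.inr ⟨hq, rfl⟩⟩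
  haveI := Fact.mk hr
  have hr2 : r ≠ 2 := by rcases hqr with ⟨-, rfl⟩ | ⟨-, rfl⟩ <;> norm_num
  have hto := h.ord ht ht1
  have hrdvd : r ∣ Nat.card Ct := her ▸ Subgroup.relIndex_dvd_card _ _
  haveI hn : ((Cc T).subgroupOf Ct).Normal := Cc_normal_in T (h.cent_le_N ht ht1)
  -- an element of prime power order
  obtain ⟨s, hsM, hst, hsT, a, hso⟩ : ∃ s, s ∈ M ∧ s * t = t * s ∧ s ∉ Cc T ∧ ∃ a, orderOf s = r ^ a := by
    obtain ⟨a, m, hrm, hom⟩ := Nat.exists_eq_pow_mul_and_not_dvd (orderOf_pos c).ne' r hr.ne_one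
    refine ⟨c ^ m, pow_mem hcM m, (show Commute c t from hct).pow_left m |>.eq, fun hcm => hcT ?_, a, ?_⟩
    · have hidx : ((Cc T).subgroupOf Ct).index = r := her
      have h1 : (QuotientGroup.mk' ((Cc T).subgroupOf Ct) ⟨c, hcC⟩) ^ m = 1 := by
        rw [← map_pow, QuotientGroup.mk'_apply, QuotientGroup.eq_one_iff]
        exact hcm
      have h2 : orderOf (QuotientGroup.mk' ((Cc T).subgroupOf Ct) ⟨c, hcC⟩) = 1 :=
        Nat.eq_one_of_dvd_coprimes ((hr.coprime_iff_not_dvd).2 hrm)
          (hidx ▸ orderOf_dvd_natCard _) (orderOf_dvd_of_pow_eq_one h1)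
      rw [orderOf_eq_one_iff, QuotientGroup.mk'_apply, QuotientGroup.eq_one_iff] at h2
      exact h2
    · have hm0 : m ≠ 0 := fun h0 => hrm (h0 ▸ dvd_zero r)
      rw [orderOf_pow_of_dvd hm0 (hom ▸ dvd_mul_left m _), hom, Nat.mul_div_cancel _ (Nat.pos_of_ne_zero hm0)]
  -- a Sylow subgroup of `M` containing it
  obtain ⟨P, hP⟩ := (IsPGroup.of_card (n := a) (by
    rw [Nat.card_zpowers, Subgroup.orderOf_mk, hso]) : IsPGroup r (zpowers (⟨s, hsM⟩ : M))).exists_le_sylow
  set A := (P : Subgroup M).map M.subtype with hA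
  have hsA : s ∈ A := ⟨⟨s, hsM⟩, hP (mem_zpowers _), rfl⟩
  have hAp : IsPGroup r A := P.2.map _
  obtain ⟨hAc, hAcase⟩ := sylow_odd_cases h.eoc hr2 hAp
  have hcentral : ∀ u : G, orderOf u = 2 → (∀ b ∈ A, u * b * u⁻¹ ∈ A) → ∀ b ∈ A, u * b = b * u :=
    fun u hu hn b hb => invol_centralizes h.eoc hr2 hto hu hrdvd hAp hAc hn hb
  by_cases hcyc : IsCyclic A
  · -- Burnside's transfer theorem
    haveI : IsCyclic (P : Subgroup M) :=
      ((P : Subgroup M).equivMapOfInjective M.subtype M.subtype_injective).isCyclic.2 hcyc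
    set Np := normalizer ((P : Subgroup M) : Set M)
    set Cp := centralizer ((P : Subgroup M) : Set M)
    have hPc : (P : Subgroup M) ≤ Cp := fun x hx => mem_centralizer_iff.2 fun y hy => by
      haveI : IsMulCommutative (P : Subgroup M) := IsCyclic.isMulCommutative
      exact congrArg Subtype.val (IsMulCommutative.is_comm.comm (⟨y, hy⟩ : (P : Subgroup M)) ⟨x, hx⟩)
    have hNC : Np ≤ Cp := by
      rw [← Subgroup.relIndex_eq_one]
      haveI := Fintype.ofFinite M
      set A' := autInducedBy Np (P : Subgroup M)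
      have hidx : Cp.relIndex Np = Nat.card A' := CfsgLib.Blocks.card_autInducedBy_eq_index le_rfl
      have h1 : Cp.relIndex Np ∣ Nat.card (MulAut (P : Subgroup M)) := by
        rw [hidx]; exact Subgroup.card_subgroup_dvd_card _
      obtain ⟨k, hk⟩ := IsPGroup.iff_card.mp P.2
      have hnr : ¬ r ∣ Cp.relIndex Np := fun hd => P.not_dvd_index
        ((hd.trans (Subgroup.relIndex_dvd_of_le_left Np hPc)).trans
          (Subgroup.relIndex_dvd_index_of_le le_normalizer))
      rw [IsCyclic.card_mulAut, hk] at h1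
      have h2 : Cp.relIndex Np ∣ r - 1 := by
        rcases Nat.eq_zero_or_pos k with rfl | hk0
        · simp only [pow_zero, Nat.totient_one, Nat.dvd_one] at h1
          rw [h1]; exact one_dvd _
        rw [Nat.totient_prime_pow hr hk0] at h1
        exact (((hr.coprime_iff_not_dvd).2 hnr).symm.pow_right (k - 1)).dvd_of_dvd_mul_left h1
      -- the index is odd
      have hodd : ¬ 2 ∣ Cp.relIndex Np := by
        intro h2d
        obtain ⟨S⟩ : Nonempty (Sylow 2 Np) := inferInstance
        have hSC : (S : Subgroup Np) ≤ Cp.subgroupOf Np := by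
          intro z hz
          rw [mem_subgroupOf, mem_centralizer_iff]
          intro b hb
          have hz2 := h.sq_of_two (S := ((S : Subgroup Np).map Np.subtype).map M.subtype)
            ((S.2.map _).map _) ⟨_, ⟨z, hz, rfl⟩, rfl⟩
          by_cases hz1 : (((z : Np) : M) : G) = 1
          · have : ((z : Np) : M) = 1 := Subtype.ext hz1
            rw [this, mul_one, one_mul]
          refine Subtype.ext ?_
          simp only [Subgroup.coe_mul]
          refine (hcentral _ (orderOf_eq_prime (by rw [pow_two]; exact hz2) hz1) ?_ _ ⟨b, hb, rfl⟩).symm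
          rintro _ ⟨b', hb', rfl⟩
          exact ⟨_, (mem_normalizer_iff.1 z.2 b').1 hb', by simp⟩
        exact S.not_dvd_index (h2d.trans (Subgroup.index_dvd_of_le hSC))
      have h4 : r - 1 = 2 ∨ r - 1 = 4 := by rcases hqr with ⟨-, rfl⟩ | ⟨-, rfl⟩ <;> norm_num
      have hcop : Nat.Coprime (Cp.relIndex Np) 4 :=
        (((Nat.prime_two.coprime_iff_not_dvd).2 hodd).symm.pow_right 2 : Nat.Coprime _ (2 ^ 2))
      refine Nat.eq_one_of_dvd_coprimes hcop dvd_rfl (h2.trans ?_)
      rcases h4 with e4 | e4 <;> rw [e4]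
      norm_num
    obtain ⟨P', K, hK, hKP⟩ := CfsgLib.hasNormalPComplement_of_normalizer_le_centralizer P hNC
    rcases hS.eq_bot_or_eq_top_of_normal K hK with e1 | e1
    · rw [e1] at hKP
      have htop : (P' : Subgroup M) = ⊤ := Subgroup.isComplement'_bot_left.1 hKP
      have h2 : (⟨t, hTM ht⟩ : M) ∈ (P' : Subgroup M) := htop ▸ mem_top _
      obtain ⟨k, hk⟩ := IsPGroup.iff_orderOf.1 P'.2 ⟨_, h2⟩
      rw [Subgroup.orderOf_mk, Subgroup.orderOf_mk, hto] at hk
      exact hr2 ((Nat.prime_dvd_prime_iff_eq Nat.prime_two hr).1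
        (Nat.prime_two.dvd_of_dvd_pow (show 2 ∣ r ^ k from hk ▸ dvd_rfl))).symm
    · rw [e1] at hKP
      have hbot : (P' : Subgroup M) = ⊥ := Subgroup.isComplement'_top_left.1 hKP
      have h1 : Nat.card (P : Subgroup M) = 1 := by
        rw [Sylow.card_eq_multiplicity P, ← Sylow.card_eq_multiplicity P', hbot, Subgroup.card_bot]
      have : (⟨s, hsM⟩ : M) = 1 := by
        have h2 := Subgroup.eq_bot_of_card_eq _ h1
        exact (Subgroup.mem_bot).1 (h2 ▸ hP (mem_zpowers _))
      exact hsT ((show s = 1 from congrArg Subtype.val this) ▸ one_mem _)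
  -- elementary, not cyclic
  have hexp : ∀ b ∈ A, b ^ r = 1 := hAcase.resolve_left hcyc
  have hsr : orderOf s = r := orderOf_eq_prime (hexp s hsA) fun e1 => hsT (e1 ▸ one_mem _)
  have hAr2 : r ^ 2 ≤ Nat.card A := by
    obtain ⟨k, hk⟩ := IsPGroup.iff_card.mp hAp
    rw [hk]
    refine Nat.pow_le_pow_right hr.pos ?_
    by_contra hk2
    refine hcyc ?_
    rcases (show k = 0 ∨ k = 1 by omega) with rfl | rfl
    · haveI : Subsingleton A := Finite.card_le_one_iff_subsingleton.1 (by rw [hk, pow_zero])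
      exact isCyclic_of_subsingleton
    · exact isCyclic_of_prime_card (by rw [hk, pow_one])
  by_cases hrC : r ∣ Nat.card (Cc T)
  · -- the centraliser of `s` contains a Sylow subgroup through `t`
    obtain ⟨o, ho⟩ := exists_prime_orderOf_dvd_card' r hrC
    obtain ⟨g, hg⟩ := h.eoc (zpowers (o : G)) (zpowers s) (by
      rw [Nat.card_zpowers, Nat.card_zpowers, Subgroup.orderOf_coe, ho, hsr])
    set H := centralizer ({s} : Set G)
    have hTg : (T : Subgroup G).map (MulAut.conj g).toMonoidHom ≤ H := by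
      rintro _ ⟨z, hz, rfl⟩
      rw [mem_centralizer_singleton_iff]
      obtain ⟨_, ⟨k, rfl⟩, hk⟩ : s ∈ (zpowers (o : G)).map (MulAut.conj g).toMonoidHom := hg ▸ mem_zpowers s
      rw [← hk, ← map_mul, ← map_mul]
      congr 1
      exact ((show Commute z (o : G) from mem_centralizer_iff.1 o.2 z hz).zpow_right k).eq
    obtain ⟨S, hSt⟩ := (IsPGroup.of_card (n := 1) (by
      rw [Nat.card_zpowers, Subgroup.orderOf_mk, hto, pow_one]) :
      IsPGroup 2 (zpowers (⟨t, mem_centralizer_singleton_iff.2 hst.symm⟩ : H))).exists_le_sylow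
    set S' := (S : Subgroup H).map H.subtype
    have hS'p : IsPGroup 2 S' := S.2.map _
    have htS : t ∈ S' := ⟨_, hSt (mem_zpowers _), rfl⟩
    have hS'T : S' ≤ (T : Subgroup G) := by
      intro u hu
      by_cases hu1 : u = 1
      · exact hu1 ▸ one_mem _
      refine h.invol_mem ht hto (orderOf_eq_prime (by rw [pow_two]; exact h.sq_of_two hS'p hu) hu1) ?_
      have hi : ∀ z ∈ S', z⁻¹ = z := fun z hz => inv_eq_of_mul_eq_one_right (h.sq_of_two hS'p hz)
      calc u * t = (u * t)⁻¹ := (hi _ (mul_mem hu htS)).symm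
        _ = t * u := by rw [mul_inv_rev, hi t htS, hi u hu]
    have hcard : Nat.card (T : Subgroup G) ≤ Nat.card S' := by
      obtain ⟨S₀, hS₀⟩ := ((T.2.map (MulAut.conj g).toMonoidHom).comap_of_injective H.subtype
        H.subtype_injective).exists_le_sylow
      rw [card_map_of_injective H.subtype_injective, Sylow.card_eq_multiplicity S,
        ← Sylow.card_eq_multiplicity S₀]
      refine le_trans (le_of_eq ?_) (Subgroup.card_le_of_le hS₀)
      rw [← card_map_of_injective (f := (MulAut.conj g).toMonoidHom) (MulAut.conj g).injective (K := (T : Subgroup G))]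
      exact (Nat.card_congr (subgroupOfEquivOfLe hTg).toEquiv).symm
    have heq := Subgroup.eq_of_le_of_card_ge hS'T hcard
    refine hsT (mem_centralizer_iff.2 fun z hz => ?_)
    obtain ⟨w, -, rfl⟩ : z ∈ S' := heq.symm ▸ hz
    exact mem_centralizer_singleton_iff.1 w.2
  -- the centraliser of `s` in `M`
  set H := M ⊓ centralizer ({s} : Set G)
  have htH : t ∈ H := ⟨hTM ht, mem_centralizer_singleton_iff.2 hst.symm⟩
  have hAH : A ≤ H := fun b hb => ⟨map_subtype_le _ hb, mem_centralizer_singleton_iff.2 (hAc b hb s hsA)⟩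
  obtain ⟨S, hSt⟩ := (IsPGroup.of_card (n := 1) (by
    rw [Nat.card_zpowers, Subgroup.orderOf_mk, hto, pow_one]) :
    IsPGroup 2 (zpowers (⟨t, htH⟩ : H))).exists_le_sylow
  set S' := (S : Subgroup H).map H.subtype
  have hS'p : IsPGroup 2 S' := S.2.map _
  have htS : t ∈ S' := ⟨_, hSt (mem_zpowers _), rfl⟩
  have hS'eq : (S : Subgroup H) = zpowers (⟨t, htH⟩ : H) := by
    refine le_antisymm (fun u hu => ?_) hSt
    have huS : (u : G) ∈ S' := ⟨u, hu, rfl⟩
    have hi : ∀ z ∈ S', z⁻¹ = z := fun z hz => inv_eq_of_mul_eq_one_right (h.sq_of_two hS'p hz)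
    have hcomm : (u : G) * t = t * u := by
      calc (u : G) * t = ((u : G) * t)⁻¹ := (hi _ (mul_mem huS htS)).symm
        _ = t * u := by rw [mul_inv_rev, hi t htS, hi _ huS]
    by_cases hu1 : (u : G) = 1
    · rw [show u = 1 from Subtype.ext hu1]; exact one_mem _
    have huT := h.invol_mem ht hto (orderOf_eq_prime (by rw [pow_two]; exact h.sq_of_two hS'p huS) hu1) hcomm
    rcases h.fixed_eq hqr ht ht1 hst hso hsT huT (mem_centralizer_singleton_iff.1 u.2.2).symm with e1 | e1
    · exact absurd e1 hu1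
    · rw [show u = ⟨t, htH⟩ from Subtype.ext e1]; exact mem_zpowers _
  have hScard : Nat.card (S : Subgroup H) = 2 := by rw [hS'eq, Nat.card_zpowers, Subgroup.orderOf_mk, hto]
  haveI : IsCyclic (S : Subgroup H) := isCyclic_of_prime_card hScard
  have hmin : (Nat.card H).minFac = 2 := by
    rw [Nat.minFac_eq_two_iff]
    exact hto ▸ Subgroup.orderOf_dvd_natCard _ htH
  obtain ⟨S₁, X, hXn, hXS⟩ := CfsgLib.hasNormalPComplement_of_normalizer_le_centralizer S
    (IsCyclic.normalizer_le_centralizer hmin inferInstance)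
  haveI := hXn
  have hXidx : X.index = 2 := by
    rw [hXS.symm.index_eq_card, Sylow.card_eq_multiplicity S₁, ← Sylow.card_eq_multiplicity S, hScard]
  -- Frattini
  set AH : Subgroup H := A.subgroupOf H
  have hAHp : IsPGroup r AH := hAp.comap_subtype
  have hAX : AH ≤ X := by
    intro b hb
    rw [← QuotientGroup.eq_one_iff, ← orderOf_eq_one_iff]
    obtain ⟨k, hk⟩ := IsPGroup.iff_orderOf.1 hAHp ⟨b, hb⟩
    rw [Subgroup.orderOf_mk] at hk
    refine Nat.eq_one_of_dvd_coprimes (((Nat.coprime_primes hr Nat.prime_two).2 hr2).pow_left k)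
      (hk ▸ orderOf_map_dvd (QuotientGroup.mk' X) b) ?_
    rw [← hXidx]
    exact orderOf_dvd_natCard _
  have hAnd : ¬ r ∣ (AH.subgroupOf X).index := by
    intro hd
    have h1 : r ∣ AH.index := hd.trans (Subgroup.relIndex_dvd_index_of_le hAX)
    have h2 : AH.index = A.relIndex H := rfl
    have h3 : A.relIndex H ∣ (P : Subgroup M).index := by
      have h4 : A.relIndex H ∣ A.relIndex M :=
        ⟨H.relIndex M, (Subgroup.relIndex_mul_relIndex A H M hAH inf_le_left).symm⟩
      refine h4.trans (dvd_of_eq ?_)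
      show (((P : Subgroup M).map M.subtype).subgroupOf M).index = (P : Subgroup M).index
      rw [Subgroup.subgroupOf, Subgroup.comap_map_eq_self_of_injective M.subtype_injective]
    exact P.not_dvd_index ((h2 ▸ h1).trans h3)
  set PX : Sylow r X := IsPGroup.toSylow (hAHp.comap_subtype (K := X)) hAnd
  have hfr := Sylow.normalizer_sup_eq_top PX
  have hmap : (PX : Subgroup X).map X.subtype = AH := by
    show (AH.subgroupOf X).map X.subtype = AH
    exact Subgroup.map_subgroupOf_eq_of_le hAX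
  rw [hmap] at hfr
  set NA := normalizer (AH : Set H)
  have h2NA : 2 ∣ Nat.card NA := by
    have h1 := Subgroup.relIndex_sup_right (H := NA) (K := X)
    rw [hfr, Subgroup.relIndex_top_right, hXidx] at h1
    rw [h1]
    exact Subgroup.relIndex_dvd_card _ _
  obtain ⟨u, hu⟩ := exists_prime_orderOf_dvd_card' 2 h2NA
  have huo : orderOf (((u : NA) : H) : G) = 2 := by rw [Subgroup.orderOf_coe, Subgroup.orderOf_coe, hu]
  have hucent := hcentral _ huo fun b hb =>
    (mem_normalizer_iff.1 u.2 ⟨b, hAH hb⟩).1 (show (⟨b, hAH hb⟩ : H) ∈ AH from hb)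
  obtain ⟨g, hg⟩ := h.eoc.invol_conj huo hto
  -- a conjugate of `A` inside the centraliser of `t`
  set A₁ := A.map (MulAut.conj g).toMonoidHom
  have hA1 : A₁ ≤ Ct := by
    rintro _ ⟨b, hb, rfl⟩
    rw [hCt, mem_centralizer_singleton_iff, ← hg, ← MulAut.conj_apply g]
    show (MulAut.conj g) b * (MulAut.conj g) _ = (MulAut.conj g) _ * (MulAut.conj g) b
    rw [← map_mul, ← map_mul, hucent b hb]
  have hdvd : Nat.card A ∣ r * Nat.card (Cc T) := by
    rw [← card_map_of_injective (f := (MulAut.conj g).toMonoidHom) (MulAut.conj g).injective (K := A), ← her, he]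
    refine (Subgroup.card_dvd_of_le hA1).trans (dvd_of_eq ?_)
    have h1 := Subgroup.relIndex_mul_relIndex ⊥ (Cc T) Ct bot_le hle
    rw [Subgroup.relIndex_bot_left, Subgroup.relIndex_bot_left] at h1
    rw [← h1, mul_comm]
  obtain ⟨k, hk⟩ := IsPGroup.iff_card.mp hAp
  have h1 : Nat.card A ∣ r := by
    refine Nat.Coprime.dvd_of_dvd_mul_right ?_ hdvd
    rw [hk]
    exact ((hr.coprime_iff_not_dvd).2 hrC).pow_left k
  have h2 := Nat.le_of_dvd hr.pos h1
  nlinarith [hr.two_le]

end CfsgLib.EqualConj
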